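import Cfsg.Agent.Lib.HeType.Coords.Code

/-!
Kernel checks on the maps given by images of the six generators.
-/

set_option autoImplicit false
set_option maxRecDepth 100000
set_option Elab.async false

namespace CfsgLib.HeType

theorem unit_check : ((List.range 128).all fun v => qAut [1, 2, 4, 8, 16, 32] v == v) = true := by decide +kernel

theorem images_lt :
    (([imX, imY, imYi] ++ goodR).all fun A => (A.length == 6) && A.all fun w => Nat.blt w 128) = true := by
  decide +kernel

theorem good_check : (goodR.all fun A => (List.range 6).all fun i =>
    (qAut A (A.getD i 0) == 2 ^ i) &&
      (let P := A.map (qAut imX); qAut P (qAut P (P.getD i 0)) == 2 ^ i)) = true := by decide +kernel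

end CfsgLib.HeType
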