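import Cfsg.Agent.Lib.HeType.Coords.Elems
import Cfsg.Agent.Lib.HeType.Coords.ActCheck

/-!
Conjugation on the codes.
-/

set_option autoImplicit false
set_option linter.unusedSectionVars false

namespace CfsgLib.HeType

variable {G : Type*} [Group G] {t : G} {a b : ℕ → G}

theorem qMul_lt (v w : ℕ) : qMul v w < 128 := by
  unfold qMul
  split_ifs <;> omega

theorem qAut_lt (A : List ℕ) (v : ℕ) : qAut A v < 128 := by
  have key : ∀ (l : List ℕ) (r : ℕ), r < 128 →
      l.foldl (fun r i => if v.testBit i then qMul r (A.getD i 0) else r) r < 128 := by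
    intro l
    induction l with
    | nil => intro r hr; exact hr
    | cons i l ih =>
      intro r hr
      refine ih _ ?_
      dsimp only
      split_ifs
      · exact qMul_lt _ _
      · exact hr
  exact key _ _ (by omega)

theorem images_bound {A : List ℕ} (hA : A ∈ [imX, imY, imYi] ++ goodR) (i : ℕ) : A.getD i 0 < 128 := by
  have h := List.all_eq_true.1 images_lt A hA
  simp only [Bool.and_eq_true, List.all_eq_true] at h
  rcases lt_or_ge i A.length with hi | hi
  · rw [List.getD_eq_getElem _ _ hi]
    exact Nat.le_of_ble_eq_true (h.2 _ (List.getElem_mem hi))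
  · rw [List.getD_eq_default _ _ hi]; norm_num

/-- Conjugation is given by the images of the six generators. -/
theorem ExFrame.conj_el (F : ExFrame t a b) {g : G} (hgt : Commute g t) {A : List ℕ}
    (h : ∀ i < 6, g * qEl t a b (2 ^ i) * g⁻¹ = qEl t a b (A.getD i 0)) {v : ℕ} (hv : v < 128) :
    g * qEl t a b v * g⁻¹ = qEl t a b (qAut A v) := by
  have key : ∀ (l : List ℕ), (∀ i ∈ l, i < 6) → ∀ r r' : ℕ, g * qEl t a b r * g⁻¹ = qEl t a b r' →
      g * qEl t a b (l.foldl (fun r i => if v.testBit i then qMul r ([1, 2, 4, 8, 16, 32].getD i 0) else r) r) * g⁻¹ =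
        qEl t a b (l.foldl (fun r i => if v.testBit i then qMul r (A.getD i 0) else r) r') := by
    intro l
    induction l with
    | nil => intro _ r r' hr; exact hr
    | cons i l ih =>
      intro hl r r' hr
      refine ih (fun j hj => hl j (by simp [hj])) _ _ ?_
      have hi := hl i (by simp)
      dsimp only
      split_ifs
      · have hu : [1, 2, 4, 8, 16, 32].getD i 0 = 2 ^ i := by interval_cases i <;> rfl
        rw [← F.el_mul, ← F.el_mul, hu, ← hr, ← h i hi]
        group
      · exact hr
  have h0 : g * qEl t a b (v / 64 % 2 * 64) * g⁻¹ = qEl t a b (v / 64 % 2 * 64) := by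
    rcases Nat.mod_two_eq_zero_or_one (v / 64) with e | e <;> rw [e]
    · simp [F.el_zero]
    · rw [one_mul, F.el_top, hgt.eq, mul_inv_cancel_right]
  have hu := eq_of_beq (List.all_eq_true.1 unit_check v (List.mem_range.2 hv))
  have := key (List.range 6) (fun i hi => List.mem_range.1 hi) _ _ h0
  rw [show (List.range 6).foldl (fun r i => if v.testBit i then qMul r ([1, 2, 4, 8, 16, 32].getD i 0) else r)
    (v / 64 % 2 * 64) = qAut [1, 2, 4, 8, 16, 32] v from rfl, hu] at this
  exact this

theorem ExFrame.qCom_iff (F : ExFrame t a b) (v w : ℕ) :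
    qCom v w = true ↔ Commute (qEl t a b v) (qEl t a b w) := by
  rw [qCom, beq_iff_eq, commute_iff_eq, F.el_mul, F.el_mul]
  exact ⟨fun h => by rw [h], fun h => F.el_inj (qMul_lt _ _) (qMul_lt _ _) h⟩

end CfsgLib.HeType
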