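import Mathlib.Data.Nat.Notation

/-!
The group generated by the lifts of the three generators of L3(2): a word for each of the 168 classes modulo the
central involution and the multiplication by the generators, `class + 256` when the central involution enters.
-/

set_option autoImplicit false

namespace CfsgLib.HeType

/-- The word of a class, in the letters 0 (order seven), 1 (order three), 2 (the third element). -/
def lPaths : List (List ℕ) := [
  [], [0], [1], [2], [0,0], [0,1], [0,2], [1,0], [1,1], [1,2], [2,0], [2,1], [0,0,0], [0,0,2], [0,1,0],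
  [0,1,1], [0,1,2], [0,2,0], [0,2,1], [1,0,0], [1,0,1], [1,0,2], [1,1,0], [1,2,0], [2,0,0], [2,0,1],
  [2,0,2], [2,1,0], [0,0,0,0], [0,0,0,2], [0,0,2,0], [0,0,2,1], [0,1,0,0], [0,1,0,1], [0,1,0,2], [0,1,1,0],
  [0,1,2,0], [0,2,0,0], [0,2,0,1], [0,2,0,2], [0,2,1,0], [1,0,0,0], [1,0,0,2], [1,0,1,0], [1,0,2,0],
  [1,1,0,2], [1,2,0,0], [1,2,0,1], [1,2,0,2], [2,0,0,0], [2,0,0,2], [2,0,1,0], [2,0,1,2], [2,0,2,0],
  [2,0,2,1], [2,1,0,0], [2,1,0,1], [2,1,0,2], [0,0,0,0,0], [0,0,0,0,2], [0,0,0,2,0], [0,0,0,2,1],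
  [0,0,2,0,0], [0,0,2,0,1], [0,0,2,0,2], [0,0,2,1,0], [0,1,0,0,2], [0,1,0,2,0], [0,1,1,0,2], [0,1,2,0,0],
  [0,1,2,0,1], [0,1,2,0,2], [0,2,0,0,0], [0,2,0,0,2], [0,2,0,1,0], [0,2,0,1,2], [0,2,0,2,1], [0,2,1,0,0],
  [0,2,1,0,1], [0,2,1,0,2], [1,0,0,0,2], [1,0,0,2,0], [1,0,1,0,1], [1,0,1,0,2], [1,0,2,0,0], [1,0,2,0,1],
  [1,0,2,0,2], [1,1,0,2,0], [1,2,0,0,0], [1,2,0,1,0], [1,2,0,1,2], [1,2,0,2,1], [2,0,0,0,2], [2,0,0,2,0],
  [2,0,0,2,1], [2,0,1,0,0], [2,0,2,0,0], [2,0,2,1,0], [0,0,0,0,0,2], [0,0,0,0,2,0], [0,0,0,2,0,0],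
  [0,0,0,2,0,1], [0,0,0,2,0,2], [0,0,0,2,1,0], [0,0,2,0,0,0], [0,0,2,0,0,2], [0,0,2,0,1,0], [0,0,2,0,1,2],
  [0,0,2,0,2,1], [0,0,2,1,0,1], [0,0,2,1,0,2], [0,1,0,0,2,0], [0,1,0,2,0,0], [0,1,0,2,0,1], [0,1,0,2,0,2],
  [0,1,1,0,2,0], [0,1,2,0,0,0], [0,1,2,0,1,0], [0,1,2,0,1,2], [0,1,2,0,2,1], [0,2,0,0,0,2], [0,2,0,0,2,0],
  [0,2,0,0,2,1], [0,2,0,1,0,0], [1,0,0,0,2,0], [1,0,0,2,0,0], [1,0,0,2,0,1], [1,0,0,2,0,2], [1,0,1,0,2,0],
  [1,0,2,0,0,0], [1,0,2,0,1,0], [1,1,0,2,0,0], [1,2,0,0,0,2], [1,2,0,2,1,0], [2,0,0,0,2,0], [2,0,0,2,0,0],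
  [2,0,0,2,0,2], [2,0,0,2,1,0], [2,0,2,0,0,0], [2,0,2,0,0,2], [2,0,2,1,0,1], [2,0,2,1,0,2], [0,0,0,0,0,2,0],
  [0,0,0,0,2,0,1], [0,0,0,2,0,0,0], [0,0,0,2,0,0,2], [0,0,0,2,0,1,0], [0,0,0,2,0,1,2], [0,0,0,2,1,0,2],
  [0,0,2,0,0,2,0], [0,0,2,0,0,2,1], [0,0,2,0,1,0,0], [0,1,0,0,2,0,0], [0,1,0,0,2,0,2], [0,1,1,0,2,0,0],
  [0,1,2,0,0,0,2], [0,1,2,0,2,1,0], [0,2,0,0,0,2,0], [0,2,0,0,2,0,0], [0,2,0,0,2,1,0], [1,0,0,0,2,0,2],
  [1,0,1,0,2,0,0], [1,0,1,0,2,0,1], [1,1,0,2,0,0,0], [1,2,0,0,0,2,0], [2,0,2,0,0,2,1], [0,0,0,0,0,2,0,1],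
  [0,0,0,0,2,0,1,0]]

/-- The product of a class with a generator. -/
def lNexts : List (List ℕ) := [
  [1,2,3], [4,5,6], [7,8,9], [10,11,256], [12,7,13], [14,15,16], [17,18,257], [19,20,21], [22,0,11],
  [23,3,258], [24,25,26], [27,9,264], [28,14,29], [30,31,260], [32,33,34], [35,1,18], [36,6,261],
  [37,38,39], [40,16,271], [41,22,42], [43,4,31], [44,13,263], [15,28,45], [46,47,48], [49,27,50],
  [51,46,52], [53,54,266], [55,56,57], [58,19,59], [60,61,268], [62,63,64], [65,21,276], [2,35,66],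
  [8,12,61], [67,29,270], [20,58,68], [69,70,71], [72,40,73], [74,69,75], [259,76,273], [77,78,79],
  [5,43,80], [81,59,275], [33,82,83], [84,85,86], [87,42,278], [88,10,54], [89,55,90], [322,91,279],
  [47,51,92], [93,94,280], [95,342,85], [71,26,281], [96,339,82], [97,52,302], [332,23,91], [331,24,94],
  [317,50,283], [82,32,98], [99,45,284], [100,101,102], [103,34,289], [104,65,105], [106,84,107],
  [262,108,286], [92,109,110], [111,98,288], [112,113,114], [115,66,291], [116,17,76], [117,77,118],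
  [336,119,292], [70,74,120], [121,122,293], [123,370,113], [86,39,294], [281,75,325], [364,36,119],
  [363,37,122], [301,73,296], [124,309,297], [125,126,127], [0,41,309], [128,80,299], [129,30,108],
  [130,92,307], [265,305,300], [131,377,351], [56,89,132], [295,95,377], [110,48,303], [133,90,311],
  [134,44,305], [135,356,136], [137,57,312], [11,88,87], [138,97,139], [118,140,141], [142,68,314],
  [132,143,137], [144,103,145], [146,112,147], [269,390,316], [120,349,148], [85,106,131], [149,150,318],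
  [151,383,126], [114,64,319], [294,107,340], [403,62,150], [324,105,321], [152,389,153], [306,60,390],
  [350,120,330], [272,328,323], [154,405,379], [78,117,155], [320,123,405], [148,71,326], [156,118,333],
  [157,67,328], [158,388,89], [159,79,334], [18,116,115], [396,412,160], [329,99,413], [378,131,362],
  [277,360,337], [161,162,407], [109,130,394], [358,151,162], [163,81,360], [164,87,344], [150,410,146],
  [63,403,112], [153,137,399], [282,404,349], [285,413,355], [119,384,129], [98,165,352], [145,96,165],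
  [304,139,353], [155,166,159], [167,125,135], [113,146,154], [418,392,356], [313,409,389], [127,102,357],
  [339,145,359], [397,411,117], [395,110,365], [31,129,128], [361,142,419], [290,400,367], [165,111,400],
  [347,115,372], [392,417,167], [101,391,125], [160,159,422], [315,419,398], [298,420,380], [310,124,420],
  [308,394,386], [143,414,152], [126,167,161], [166,141,396], [346,152,158], [335,416,412]]

end CfsgLib.HeType
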