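import Mathlib
import Cfsg.Agent.Lib.HeType.Coords.LTable

/-!
A normal form for the products of the three elements, in the two cells of the Bruhat decomposition.
-/

set_option autoImplicit false
set_option linter.unusedSectionVars false

namespace CfsgLib.HeType

/-- A normal form: exponents of the first two elements, and the exponent after the third one if it occurs. -/
structure NForm where
  bit : Bool
  a : ℕ
  b : ℕ
  tail : Option ℕ
deriving DecidableEq

/-- The exchange for `r * x ^ c * r`. -/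
def rxrTab : List (Bool × ℕ × ℕ × ℕ) :=
  [(false, 0, 0, 0), (true, 6, 0, 6), (true, 3, 1, 3), (false, 2, 2, 2), (true, 5, 2, 5), (false, 4, 1, 4),
    (false, 1, 0, 1)]

/-- Multiply a normal form by one of the three elements. -/
def nfStep (n : NForm) (k : ℕ) : NForm :=
  match n.tail with
  | none =>
    if k = 0 then ⟨n.bit, (n.a + 2 ^ n.b) % 7, n.b, none⟩
    else if k = 1 then ⟨n.bit, n.a, (n.b + 1) % 3, none⟩
    else ⟨n.bit, n.a, n.b, some 0⟩
  | some c =>
    if k = 0 then ⟨n.bit, n.a, n.b, some ((c + 1) % 7)⟩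
    else if k = 1 then ⟨n.bit, n.a, (n.b + 2) % 3, some ((4 * c) % 7)⟩
    else if c % 7 = 0 then ⟨!n.bit, n.a, n.b, none⟩
    else
      let p := rxrTab.getD (c % 7) (false, 0, 0, 0)
      ⟨Bool.xor n.bit p.1, (n.a + p.2.1 * 2 ^ n.b) % 7, (n.b + p.2.2.1) % 3, some (p.2.2.2)⟩

/-- The normal form of a word. -/
def nfWord (w : List ℕ) : NForm := w.foldl nfStep ⟨false, 0, 0, none⟩

/-- Every entry of the table agrees with the normal forms. -/
def lOk (l k : ℕ) : Bool :=
  let n := (lNexts.getD l []).getD k 0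
  let p := nfWord (lPaths.getD l [] ++ [k])
  let q := nfWord (lPaths.getD (n % 256) [])
  decide (n % 256 < 168) && Nat.blt (n / 256) 2 &&
    decide (p = ⟨Bool.xor q.bit (n / 256 == 1), q.a, q.b, q.tail⟩)

theorem lOk_all : ∀ l : Fin 168, ∀ k : Fin 3, lOk l.val k.val = true := by
  decide +kernel

theorem lPaths_lt : (lPaths.all fun p => p.all fun k => Nat.blt k 3) = true := by decide +kernel

variable {G : Type*} [Group G] (z x y r : G)

/-- The element of a normal form. -/
def nfEl (n : NForm) : G :=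
  (if n.bit then z else 1) * x ^ n.a * y ^ n.b *
    match n.tail with
    | none => 1
    | some c => r * x ^ c

/-- The relations of the three elements. -/
structure NRel : Prop where
  zz : z * z = 1
  zx : Commute z x
  zy : Commute z y
  zr : Commute z r
  x7 : x ^ 7 = 1
  y3 : y ^ 3 = 1
  yx : y * x * y⁻¹ = x * x
  ry : r * y * r⁻¹ = y * y
  rr : r * r = z
  xr : x * r * (x * r) * (x * r) = 1

variable {z x y r}

namespace NRel

variable (N : NRel z x y r)

include N

theorem xmod (i : ℕ) : x ^ i = x ^ (i % 7) := pow_eq_pow_mod i N.x7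

theorem ymod (i : ℕ) : y ^ i = y ^ (i % 3) := pow_eq_pow_mod i N.y3

theorem y_pass (b i : ℕ) : y ^ b * x ^ i = x ^ (i * 2 ^ b) * y ^ b := by
  induction b generalizing i with
  | zero => simp
  | succ b ih =>
    have h : y * x ^ i = x ^ (2 * i) * y := by
      rw [← mul_inv_eq_iff_eq_mul, ← conj_pow, N.yx, ← pow_two, ← pow_mul]
    rw [pow_succ, mul_assoc, h, ← mul_assoc, ih, mul_assoc, show 2 * i * 2 ^ b = i * 2 ^ (b + 1) by ring, ← pow_succ]

theorem x_pass_y (c : ℕ) : x ^ c * y = y * x ^ (4 * c) := by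
  have h := N.y_pass 1 (4 * c)
  rw [pow_one, N.xmod (4 * c * 2 ^ 1), show 4 * c * 2 ^ 1 % 7 = c % 7 by omega, ← N.xmod] at h
  exact h.symm

theorem r_y : r * y = y * y * r := mul_inv_eq_iff_eq_mul.1 N.ry

theorem y2_r : y * y * r = r * y := N.r_y.symm

theorem r_y2 : r * (y * y) = y * r := by
  rw [← mul_assoc, N.r_y, mul_assoc, N.r_y, show y * y * (y * y * r) = y ^ 3 * y * r by
    simp only [pow_succ, pow_zero, one_mul, mul_assoc], N.y3, one_mul]

/-- The conjugate of an exchange by `y`. -/
theorem rxr_double {c p q s : ℕ} {u : G} (hu : ∀ g, g ∈ ({x, y, r} : Set G) → Commute u g)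
    (h : r * x ^ c * r = u * x ^ p * y ^ q * r * x ^ s) :
    r * x ^ (2 * c) * r = u * x ^ (4 * p) * y ^ (q + 1) * r * x ^ (4 * s) := by
  have e : r * x ^ (2 * c) * r = y ^ 2 * (r * x ^ c * r) * y := by
    have h1 : x ^ (2 * c) = y * x ^ c * y ^ 2 := by
      have := N.y_pass 1 c
      rw [pow_one, pow_one, show c * 2 = 2 * c by ring] at this
      rw [this, mul_assoc, ← pow_succ', N.y3, mul_one]
    calc r * x ^ (2 * c) * r = (r * y) * x ^ c * (y * y * r) := by rw [h1, pow_two]; group
      _ = y ^ 2 * (r * x ^ c * r) * y := by rw [N.r_y]; nth_rw 2 [N.y2_r]; rw [pow_two]; group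
  have hy2 : Commute u (y ^ 2) := (hu y (by simp)).pow_right 2
  calc r * x ^ (2 * c) * r = y ^ 2 * (u * x ^ p * y ^ q * r * x ^ s) * y := by rw [e, h]
    _ = u * (y ^ 2 * x ^ p) * y ^ q * r * (x ^ s * y) := by
      simp only [← mul_assoc]; rw [← hy2.eq]
    _ = u * x ^ (4 * p) * (y ^ 2 * y ^ q) * (r * y) * x ^ (4 * s) := by
      rw [N.y_pass 2 p, N.x_pass_y s, show p * 2 ^ 2 = 4 * p by ring]; group
    _ = u * x ^ (4 * p) * (y ^ 2 * y ^ q * y ^ 2) * r * x ^ (4 * s) := by
      rw [N.r_y, ← pow_two]; group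
    _ = _ := by
      rw [← pow_add, ← pow_add, N.ymod (2 + q + 2), N.ymod (q + 1), show (2 + q + 2) % 3 = (q + 1) % 3 by omega]

theorem rxr (c : ℕ) (hc : c % 7 ≠ 0) :
    let p := rxrTab.getD (c % 7) (false, 0, 0, 0)
    r * x ^ c * r = (if p.1 then z else 1) * x ^ p.2.1 * y ^ p.2.2.1 * r * x ^ p.2.2.2 := by
  have hz : ∀ g, g ∈ ({x, y, r} : Set G) → Commute z g := by
    rintro g (rfl | rfl | rfl)
    exacts [N.zx, N.zy, N.zr]
  have h1' : ∀ g, g ∈ ({x, y, r} : Set G) → Commute (1 : G) g := fun g _ => Commute.one_left g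
  have xinv : x⁻¹ = x ^ 6 := inv_eq_of_mul_eq_one_right (by rw [← pow_succ', N.x7])
  have rinv : r⁻¹ = z * r := by
    refine inv_eq_of_mul_eq_one_right ?_
    rw [← mul_assoc, ← N.zr.eq, mul_assoc, N.rr, N.zz]
  have c1 : r * x ^ 1 * r = z * x ^ 6 * y ^ 0 * r * x ^ 6 := by
    have e : x⁻¹ * r⁻¹ * x⁻¹ = r * x * r := by
      have h := N.xr
      calc x⁻¹ * r⁻¹ * x⁻¹ = x⁻¹ * r⁻¹ * x⁻¹ * (x * r * (x * r) * (x * r)) := by rw [h, mul_one]
        _ = _ := by group
    rw [pow_one, pow_zero, mul_one, ← e, xinv, rinv]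
    rw [← mul_assoc, ← (N.zx.pow_right 6).eq]
  have c6 : r * x ^ 6 * r = 1 * x ^ 1 * y ^ 0 * r * x ^ 1 := by
    have e : x * r * x = r⁻¹ * x⁻¹ * r⁻¹ := by
      have h := N.xr
      calc x * r * x = x * r * (x * r) * (x * r) * (r⁻¹ * x⁻¹ * r⁻¹) := by group
        _ = _ := by rw [h, one_mul]
    rw [pow_one, pow_zero, mul_one, one_mul, e, xinv, rinv]
    calc r * x ^ 6 * r = (z * z) * (r * x ^ 6 * r) := by rw [N.zz, one_mul]
      _ = z * ((z * r) * x ^ 6) * r := by group
      _ = (z * r) * x ^ 6 * z * r := by rw [(((Commute.refl z).mul_right N.zr).mul_right (N.zx.pow_right 6)).eq]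
      _ = _ := by group
  have c2 := N.rxr_double hz c1
  have c4 := N.rxr_double hz c2
  have c5 := N.rxr_double h1' c6
  have c3 := N.rxr_double h1' c5
  have fin : ∀ {c' p q s : ℕ} {u : G}, r * x ^ c' * r = u * x ^ p * y ^ q * r * x ^ s → c' % 7 = c % 7 →
      ∀ p' q' s' : ℕ, p % 7 = p' % 7 → q % 3 = q' % 3 → s % 7 = s' % 7 →
      r * x ^ c * r = u * x ^ p' * y ^ q' * r * x ^ s' := by
    intro c' p q s u h hc' p' q' s' hp hq hs
    rw [N.xmod c, ← hc', ← N.xmod, h, N.xmod p, N.ymod q, N.xmod s, hp, hq, hs, ← N.xmod, ← N.ymod, ← N.xmod]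
  intro p
  rcases (show c % 7 = 1 ∨ c % 7 = 2 ∨ c % 7 = 3 ∨ c % 7 = 4 ∨ c % 7 = 5 ∨ c % 7 = 6 by omega) with
    e | e | e | e | e | e <;>
    simp only [p, e, rxrTab, List.getD_cons_succ, List.getD_cons_zero, if_true, Bool.false_eq_true, if_false]
  exacts [fin c1 e.symm _ _ _ rfl rfl rfl, fin c2 e.symm _ _ _ rfl rfl rfl, fin c3 e.symm _ _ _ rfl rfl rfl,
    fin c4 e.symm _ _ _ rfl rfl rfl, fin c5 e.symm _ _ _ rfl rfl rfl, fin c6 e.symm _ _ _ rfl rfl rfl]

/-- One of the three elements. -/
theorem nfStep_mul (n : NForm) (k : ℕ) (hk : k < 3) :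
    nfEl z x y r n * (if k = 0 then x else if k = 1 then y else r) = nfEl z x y r (nfStep n k) := by
  obtain ⟨bit, a, b, tail⟩ := n
  have hzb : ∀ g, Commute z g → Commute (if bit then z else 1) g := fun g h => by cases bit <;> simp [h]
  cases tail with
  | none =>
    interval_cases k
    · simp only [nfStep, nfEl, if_true, mul_one]
      rw [mul_assoc, show y ^ b * x = x ^ (2 ^ b) * y ^ b by
        have := N.y_pass b 1
        rwa [pow_one, one_mul] at this,
        ← mul_assoc, mul_assoc _ (x ^ a), ← pow_add, N.xmod (a + 2 ^ b)]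
    · simp only [nfStep, nfEl, one_ne_zero, if_false, if_true, mul_one]
      rw [mul_assoc, ← pow_succ, N.ymod (b + 1)]
    · simp only [nfStep, nfEl, show (2 : ℕ) ≠ 0 by norm_num, show (2 : ℕ) ≠ 1 by norm_num, if_false, mul_one,
        pow_zero]
  | some c =>
    interval_cases k
    · simp only [nfStep, nfEl, if_true]
      rw [mul_assoc, mul_assoc r, ← pow_succ, N.xmod (c + 1)]
    · simp only [nfStep, nfEl, one_ne_zero, if_false, if_true]
      rw [← N.xmod (4 * c), ← N.ymod (b + 2), pow_add]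
      calc _ = (if bit then z else 1) * x ^ a * y ^ b * (r * (x ^ c * y)) := by group
        _ = (if bit then z else 1) * x ^ a * y ^ b * (r * y) * x ^ (4 * c) := by rw [N.x_pass_y]; group
        _ = _ := by rw [N.r_y, pow_two]; group
    · by_cases hc : c % 7 = 0
      · simp only [nfStep, nfEl, show (2 : ℕ) ≠ 0 by norm_num, show (2 : ℕ) ≠ 1 by norm_num, if_false, hc, if_true,
          mul_one]
        rw [N.xmod c, hc, pow_zero, mul_one, mul_assoc, N.rr,
          show (if (!bit) = true then z else 1) = (if bit = true then z else 1) * z by cases bit <;> simp [N.zz]]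
        have h1 : Commute z (x ^ a * y ^ b) := (N.zx.pow_right a).mul_right (N.zy.pow_right b)
        calc _ = (if bit = true then z else 1) * ((x ^ a * y ^ b) * z) := by group
          _ = _ := by rw [← h1.eq]; group
      · have h := N.rxr c hc
        simp only at h
        simp only [nfStep, nfEl, show (2 : ℕ) ≠ 0 by norm_num, show (2 : ℕ) ≠ 1 by norm_num, if_false, hc]
        generalize rxrTab.getD (c % 7) (false, 0, 0, 0) = p at h ⊢
        obtain ⟨e, i, j, s⟩ := p
        simp only at h ⊢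
        have hze : ∀ g, Commute z g → Commute (if e then z else 1) g := fun g hg => by cases e <;> simp [hg]
        rw [← N.xmod, ← N.ymod, show (if (Bool.xor bit e) = true then z else 1) =
            (if bit = true then z else 1) * (if e = true then z else 1) by cases bit <;> cases e <;> simp [N.zz],
          pow_add, pow_add]
        calc _ = (if bit = true then z else 1) * x ^ a * y ^ b * (r * x ^ c * r) := by group
          _ = (if bit = true then z else 1) * ((x ^ a * y ^ b) * (if e = true then z else 1)) *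
              (x ^ i * y ^ j * r * x ^ s) := by rw [h]; group
          _ = (if bit = true then z else 1) * (if e = true then z else 1) * x ^ a * (y ^ b * x ^ i) *
              (y ^ j * r * x ^ s) := by
            rw [← ((hze _ (N.zx.pow_right a)).mul_right (hze _ (N.zy.pow_right b))).eq]; group
          _ = _ := by rw [N.y_pass b i]; group

theorem nfWord_prod (w : List ℕ) (hw : ∀ k ∈ w, k < 3) :
    (w.map fun k => if k = 0 then x else if k = 1 then y else r).prod = nfEl z x y r (nfWord w) := by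
  have key : ∀ (w : List ℕ), (∀ k ∈ w, k < 3) → ∀ n : NForm,
      nfEl z x y r n * (w.map fun k => if k = 0 then x else if k = 1 then y else r).prod =
        nfEl z x y r (w.foldl nfStep n) := by
    intro w
    induction w with
    | nil => intro _ n; simp
    | cons k w ih =>
      intro hw n
      rw [List.map_cons, List.prod_cons, ← mul_assoc, N.nfStep_mul n k (hw k (by simp))]
      exact ih (fun j hj => hw j (by simp [hj])) _
  have h := key w hw ⟨false, 0, 0, none⟩
  rw [show nfEl z x y r ⟨false, 0, 0, none⟩ = 1 by simp [nfEl], one_mul] at h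
  exact h

end NRel

end CfsgLib.HeType
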