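import Cfsg.Agent.Lib.HeType.Coords.Basic
import Cfsg.Agent.Lib.HeType.Coords.Act
import Cfsg.Agent.Lib.HeType.Coords.NormalForm

/-!
The multiplication of the codes of the centraliser, and the bijection with the centraliser.
-/

set_option autoImplicit false
set_option linter.unusedSectionVars false
set_option maxRecDepth 100000

namespace CfsgLib.HeType

open Subgroup

variable {G : Type*} [Group G]

theorem imOf_mem {R : List ℕ} (hR : R ∈ goodR) (k : ℕ) : imOf R k ∈ [imX, imY, imYi] ++ goodR := by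
  unfold imOf
  split_ifs <;> simp [hR]

theorem lPaths_gen : lPaths.getD 0 [] = [] ∧ lPaths.getD 1 [] = [0] ∧ lPaths.getD 2 [] = [1] ∧
    lPaths.getD 3 [] = [2] := ⟨rfl, rfl, rfl, rfl⟩

namespace Coords

variable {t : G} {Q : Subgroup G} {R : List ℕ} {e : Bool} {x y r : G} {a b : ℕ → G}
  (C : Coords t Q R e x y r a b)

include C

theorem gL_mem (k : ℕ) : gL x y r k ∈ centralizer ({t} : Set G) := by
  unfold gL
  split_ifs
  exacts [C.xC, C.yC, C.rC]

theorem lWord_mem (w : List ℕ) : lWord x y r w ∈ centralizer ({t} : Set G) := by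
  refine Subgroup.list_prod_mem _ fun g hg => ?_
  obtain ⟨k, -, rfl⟩ := List.mem_map.1 hg
  exact C.gL_mem k

theorem commute_t {g : G} (hg : g ∈ centralizer ({t} : Set G)) : Commute g t :=
  mem_centralizer_singleton_iff.1 hg

theorem nrel : NRel (tB t e) x y r := by
  have hc : ∀ g : G, Commute g t → Commute (tB t e) g := fun g h => by
    cases e <;> simp [tB, h.symm]
  exact
    { zz := by cases e <;> simp [tB, C.frame.tt]
      zx := hc x (C.commute_t C.xC)
      zy := hc y (C.commute_t C.yC)
      zr := hc r (C.commute_t C.rC)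
      x7 := C.x7
      y3 := C.y3
      yx := C.yx
      ry := C.ry
      rr := C.rr
      xr := C.xr }

theorem lWord_mul_gen {l k : ℕ} (hl : l < 168) (hk : k < 3) :
    (lNexts.getD l []).getD k 0 % 256 < 168 ∧ (lNexts.getD l []).getD k 0 / 256 < 2 ∧
    lWord x y r (lPaths.getD l []) * gL x y r k = lWord x y r (lPaths.getD ((lNexts.getD l []).getD k 0 % 256) []) *
      tB t (e && ((lNexts.getD l []).getD k 0 / 256 == 1)) := by
  have h := lOk_all ⟨l, hl⟩ ⟨k, hk⟩
  simp only [lOk, Bool.and_eq_true, decide_eq_true_eq] at h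
  obtain ⟨⟨h1, h2⟩, h3⟩ := h
  set n := (lNexts.getD l []).getD k 0
  refine ⟨h1, Nat.le_of_ble_eq_true h2, ?_⟩
  have N := C.nrel
  have hlt : ∀ m < 168, ∀ j ∈ lPaths.getD m [], j < 3 := fun m hm j hj => by
    have hlen : lPaths.length = 168 := rfl
    rw [List.getD_eq_getElem _ _ (hlen ▸ hm : m < lPaths.length)] at hj
    exact Nat.le_of_ble_eq_true (List.all_eq_true.1 (List.all_eq_true.1 lPaths_lt _ (List.getElem_mem _)) j hj)
  have e1 : lWord x y r (lPaths.getD l []) * gL x y r k = nfEl (tB t e) x y r (nfWord (lPaths.getD l [] ++ [k])) := by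
    rw [← N.nfWord_prod _ (fun j hj => by
      rcases List.mem_append.1 hj with h | h
      · exact hlt l hl j h
      · simp only [List.mem_singleton] at h; omega)]
    rw [List.map_append, List.prod_append, List.map_singleton, List.prod_singleton]
    rfl
  have e2 : lWord x y r (lPaths.getD (n % 256) []) = nfEl (tB t e) x y r (nfWord (lPaths.getD (n % 256) [])) :=
    N.nfWord_prod _ (hlt _ h1)
  rw [e1, e2, h3]
  generalize nfWord (lPaths.getD (n % 256) []) = q
  generalize (n / 256 == 1) = f
  obtain ⟨bit, i, j, tl⟩ := q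
  have hz : ∀ g, g ∈ centralizer ({t} : Set G) → Commute (tB t (e && f)) g := fun g hg => by
    cases e <;> cases f <;> simp [tB, (C.commute_t hg).symm]
  have hm : (x ^ i * y ^ j * match tl with | none => 1 | some c => r * x ^ c) ∈ centralizer ({t} : Set G) := by
    refine mul_mem (mul_mem (pow_mem C.xC i) (pow_mem C.yC j)) ?_
    cases tl
    exacts [one_mem _, mul_mem C.rC (pow_mem C.xC _)]
  have hbit : (if Bool.xor bit f then tB t e else 1) = (if bit then tB t e else 1) * tB t (e && f) := by
    cases bit <;> cases f <;> cases e <;> simp [tB, C.frame.tt]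
  simp only [nfEl]
  rw [hbit]
  simp only [mul_assoc] at hm ⊢
  refine congrArg _ ((hz _ hm).eq.trans ?_)
  cases tl <;> simp only [mul_assoc, one_mul, mul_one]

theorem lWalk_spec : ∀ (w : List ℕ), (∀ k ∈ w, k < 3) → ∀ l bit : ℕ, l < 168 → bit < 2 → (e = false → bit = 0) →
    lWalk e w l bit % 256 < 168 ∧ lWalk e w l bit / 256 < 2 ∧
      lWord x y r (lPaths.getD l []) * tB t (bit == 1) * lWord x y r w =
        lWord x y r (lPaths.getD (lWalk e w l bit % 256) []) * tB t (lWalk e w l bit / 256 == 1) := by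
  intro w
  induction w with
  | nil =>
    intro _ l bit hl hb _
    simp only [lWalk]
    have e1 : (l + 256 * bit) % 256 = l := by omega
    have e2 : (l + 256 * bit) / 256 = bit := by omega
    rw [e1, e2]
    exact ⟨hl, hb, by simp [lWord]⟩
  | cons k w ih =>
    intro hw l bit hl hb he
    obtain ⟨h1, h2, h3⟩ := C.lWord_mul_gen hl (hw k (by simp))
    simp only [lWalk]
    set n := (lNexts.getD l []).getD k 0
    set b' := (if e then (bit + n / 256) % 2 else 0)
    have hb' : b' < 2 := by simp only [b']; split_ifs <;> omega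
    obtain ⟨i1, i2, i3⟩ := ih (fun j hj => hw j (by simp [hj])) (n % 256) b' h1 hb'
      (fun hf => by simp [b', hf])
    refine ⟨i1, i2, ?_⟩
    rw [← i3, show lWord x y r (k :: w) = gL x y r k * lWord x y r w by simp [lWord],
      ← mul_assoc, mul_assoc _ (tB t (bit == 1)),
      show tB t (bit == 1) * gL x y r k = gL x y r k * tB t (bit == 1) by
        cases (bit == 1) <;> simp [tB, (C.commute_t (C.gL_mem k)).eq],
      ← mul_assoc, h3, mul_assoc _ (tB t (e && (n / 256 == 1))), C.frame.tB_mul]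
    congr 3
    simp only [b']
    rcases (show bit = 0 ∨ bit = 1 by omega) with rfl | rfl <;>
      rcases (show n / 256 = 0 ∨ n / 256 = 1 by omega) with q | q <;> cases e <;> simp [q] <;> simp at he

theorem conj_word {w : List ℕ} (hw : ∀ k ∈ w, k < 3) {v : ℕ} (hv : v < 128) :
    lWord x y r w * qEl t a b v * (lWord x y r w)⁻¹ = qEl t a b (w.foldr (fun k u => qAut (imOf R k) u) v) ∧
      w.foldr (fun k u => qAut (imOf R k) u) v < 128 := by
  induction w with
  | nil => simp [lWord, hv]
  | cons k w ih =>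
    obtain ⟨h1, h2⟩ := ih fun j hj => hw j (by simp [hj])
    refine ⟨?_, qAut_lt _ _⟩
    have hk : ∀ i < 6, gL x y r k * qEl t a b (2 ^ i) * (gL x y r k)⁻¹ = qEl t a b ((imOf R k).getD i 0) := by
      intro i hi
      have := hw k (by simp)
      interval_cases k
      exacts [C.conjX i hi, C.conjY i hi, C.conjR i hi]
    rw [List.foldr_cons, ← C.frame.conj_el (C.commute_t (C.gL_mem k)) hk h2, ← h1,
      show lWord x y r (k :: w) = gL x y r k * lWord x y r w by simp [lWord]]
    group

theorem cEl_mul {c d : ℕ} (hc : c < 21504) (hd : d < 21504) :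
    cEl t a b x y r c * cEl t a b x y r d = cEl t a b x y r (cMul R e c d) ∧ cMul R e c d < 21504 := by
  have hlc : c / 128 < 168 := by omega
  have hld : d / 128 < 168 := by omega
  have hlt : ∀ m < 168, ∀ j ∈ lPaths.getD m [], j < 3 := fun m hm j hj => by
    have hlen : lPaths.length = 168 := rfl
    rw [List.getD_eq_getElem _ _ (hlen ▸ hm : m < lPaths.length)] at hj
    exact Nat.le_of_ble_eq_true (List.all_eq_true.1 (List.all_eq_true.1 lPaths_lt _ (List.getElem_mem _)) j hj)
  obtain ⟨w1, w2, w3⟩ := C.lWalk_spec _ (hlt _ hld) (c / 128) 0 hlc (by norm_num) (fun _ => rfl)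
  obtain ⟨h1, h2⟩ := C.conj_word (hlt _ hlc) (v := d % 128) (Nat.mod_lt _ (by norm_num))
  simp only [cMul, lAct]
  set lm := lWalk e (lPaths.getD (d / 128) []) (c / 128) 0
  set u := (lPaths.getD (c / 128) []).foldr (fun k w => qAut (imOf R k) w) (d % 128)
  set v := qMul (qMul (c % 128) u) (64 * (lm / 256))
  have hv : v < 128 := qMul_lt _ _
  refine ⟨?_, by omega⟩
  have e1 : (v + 128 * (lm % 256)) % 128 = v := by omega
  have e2 : (v + 128 * (lm % 256)) / 128 = lm % 256 := by omega
  simp only [cEl, e1, e2]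
  set W := lWord x y r (lPaths.getD (c / 128) [])
  set W' := lWord x y r (lPaths.getD (d / 128) [])
  set W'' := lWord x y r (lPaths.getD (lm % 256) [])
  have hb : qEl t a b (64 * (lm / 256)) = tB t (lm / 256 == 1) := by
    rcases (show lm / 256 = 0 ∨ lm / 256 = 1 by omega) with q | q <;> rw [q]
    · rw [Nat.mul_zero, C.frame.el_zero]; rfl
    · rw [Nat.mul_one, C.frame.el_top]; rfl
  have w3' : W * W' = W'' * tB t (lm / 256 == 1) := by simpa [tB] using w3
  calc qEl t a b (c % 128) * W * (qEl t a b (d % 128) * W')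
      = qEl t a b (c % 128) * (W * qEl t a b (d % 128) * W⁻¹) * (W * W') := by group
    _ = qEl t a b (c % 128) * qEl t a b u * (W'' * tB t (lm / 256 == 1)) := by rw [h1, w3']
    _ = qEl t a b (c % 128) * qEl t a b u * tB t (lm / 256 == 1) * W'' := by
      have hw : Commute W'' (tB t (lm / 256 == 1)) := by
        cases (lm / 256 == 1) <;> simp [tB, W'', C.commute_t (C.lWord_mem _)]
      rw [hw.eq]; group
    _ = qEl t a b v * W'' := by rw [← hb, C.frame.el_mul, C.frame.el_mul]

theorem cEl_mem {c : ℕ} : cEl t a b x y r c ∈ centralizer ({t} : Set G) :=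
  mul_mem (C.hQC ((C.hQ _).2 ⟨c % 128, Nat.mod_lt _ (by norm_num), rfl⟩)) (C.lWord_mem _)

theorem cEl_one : cEl t a b x y r 0 = 1 := by
  simp only [cEl, Nat.zero_mod, Nat.zero_div, C.frame.el_zero, lPaths_gen.1, lWord, List.map_nil, List.prod_nil, mul_one]

theorem cEl_surj [Finite G] {g : G} (hg : g ∈ centralizer ({t} : Set G)) :
    ∃ c < 21504, cEl t a b x y r c = g := by
  let S : Submonoid G :=
    { carrier := {g | ∃ c < 21504, cEl t a b x y r c = g}
      one_mem' := ⟨0, by norm_num, C.cEl_one⟩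
      mul_mem' := by
        rintro _ _ ⟨c, hc, rfl⟩ ⟨d, hd, rfl⟩
        exact ⟨cMul R e c d, (C.cEl_mul hc hd).2, (C.cEl_mul hc hd).1.symm⟩ }
  let K : Subgroup G :=
    { S with
      inv_mem' := fun {h} hh => by
        have e1 : h⁻¹ = h ^ (orderOf h - 1) := inv_eq_of_mul_eq_one_right (by
          rw [← pow_succ', Nat.sub_add_cancel (orderOf_pos h), pow_orderOf_eq_one])
        rw [e1]
        exact pow_mem (show h ∈ S from hh) _ }
  have hQK : Q ≤ K := by
    intro u hu
    obtain ⟨v, hv, rfl⟩ := (C.hQ u).1 hu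
    refine ⟨v, by omega, ?_⟩
    simp only [cEl, Nat.mod_eq_of_lt hv, Nat.div_eq_of_lt hv, lPaths_gen.1, lWord, List.map_nil, List.prod_nil, mul_one]
  have hgen : ∀ k < 3, gL x y r k ∈ K := fun k hk => by
    refine ⟨128 * (k + 1), by omega, ?_⟩
    simp only [cEl, show 128 * (k + 1) % 128 = 0 by omega, show 128 * (k + 1) / 128 = k + 1 by omega, C.frame.el_zero,
      one_mul]
    interval_cases k
    · rw [lPaths_gen.2.1]; simp [lWord]
    · rw [lPaths_gen.2.2.1]; simp [lWord]
    · rw [lPaths_gen.2.2.2]; simp [lWord]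
  have hle : Q ⊔ closure ({x, y, r} : Set G) ≤ K := by
    refine sup_le hQK ((closure_le K).2 ?_)
    rintro g (rfl | rfl | rfl)
    exacts [hgen 0 (by norm_num), hgen 1 (by norm_num), hgen 2 (by norm_num)]
  rw [← C.gen] at hg
  exact hle hg

theorem cEl_inj [Finite G] {c d : ℕ} (hc : c < 21504) (hd : d < 21504)
    (h : cEl t a b x y r c = cEl t a b x y r d) : c = d := by
  let f : Fin 21504 → ↥(centralizer ({t} : Set G)) := fun c => ⟨cEl t a b x y r c, C.cEl_mem⟩
  have hf : Function.Surjective f := fun g => by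
    obtain ⟨c, hc, e⟩ := C.cEl_surj g.2
    exact ⟨⟨c, hc⟩, Subtype.ext e⟩
  have hb := (Nat.bijective_iff_surjective_and_card f).2 ⟨hf, by rw [Nat.card_fin, C.cardC]⟩
  exact congrArg Fin.val (hb.1 (show f ⟨c, hc⟩ = f ⟨d, hd⟩ from Subtype.ext h))

/-- The codes are in bijection with the centraliser. -/
theorem cEl_bij [Finite G] :
    Set.BijOn (cEl t a b x y r) (Set.Iio 21504) (centralizer ({t} : Set G) : Set G) :=
  ⟨fun _ _ => C.cEl_mem, fun _ hc _ hd h => C.cEl_inj hc hd h, fun _ hg => C.cEl_surj hg⟩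

end Coords

end CfsgLib.HeType
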