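import Cfsg.Agent.Lib.HeType.Coords.Basic

/-!
The outer symmetry of the centraliser in the split case: exchanging the two triples of generators.
-/

set_option autoImplicit false
set_option linter.unusedSectionVars false
set_option maxRecDepth 100000

namespace CfsgLib.HeType

/-- The images of the six generators under the exchange. -/
def swapP : List ℕ := [8, 48, 24, 1, 5, 7]

theorem swap_unit_check : ((List.range 128).all fun v => qAut [1, 2, 4, 8, 16, 32] v == v) = true := by decide +kernel

theorem qmul_lt_check : ((List.range 128).all fun v => decide (qAut swapP v < 128) &&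
    (List.range 128).any fun u => qAut swapP u == v) = true := by decide +kernel

theorem swap_conj_check : ((List.range 6).all fun i =>
    (qAut imX (qAut swapP (imX.getD i 0)) == swapP.getD i 0) &&
    (qAut imY (swapP.getD i 0) == qAut swapP (imY.getD i 0)) &&
    (qAut [65, 4, 2, 72, 120, 96] (swapP.getD i 0) == qAut swapP ([65, 4, 2, 72, 120, 96].getD i 0)) &&
    decide (imX.getD i 0 < 128) && decide (imY.getD i 0 < 128) &&
    decide (([65, 4, 2, 72, 120, 96] : List ℕ).getD i 0 < 128)) = true := by decide +kernel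

theorem swap_frame_check : ((List.range 3).all fun i => (List.range 3).all fun j =>
    (qMul (swapP.getD i 0) (swapP.getD i 0) == 0) && (qMul (swapP.getD (3 + i) 0) (swapP.getD (3 + i) 0) == 0) &&
    (qMul (swapP.getD i 0) (swapP.getD j 0) == qMul (swapP.getD j 0) (swapP.getD i 0)) &&
    (qMul (swapP.getD (3 + i) 0) (swapP.getD (3 + j) 0) == qMul (swapP.getD (3 + j) 0) (swapP.getD (3 + i) 0)) &&
    (qMul (swapP.getD (3 + j) 0) (swapP.getD i 0)
      == qMul (qMul (swapP.getD i 0) (swapP.getD (3 + j) 0)) (if gramH i j then 64 else 0)) &&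
    (qMul (swapP.getD i 0) 64 == qMul 64 (swapP.getD i 0)) &&
    (qMul (swapP.getD (3 + i) 0) 64 == qMul 64 (swapP.getD (3 + i) 0))) = true := by decide +kernel

variable {G : Type*} [Group G]

theorem swap_el_tB {t : G} {a b : ℕ → G} (F : ExFrame t a b) (e : Bool) : qEl t a b (if e then 64 else 0) = tB t e := by
  cases e
  · simpa [tB] using F.el_zero
  · simpa [tB] using F.el_top

/-- A homomorphism is determined on the elements by the images of the six generators. -/
theorem swap_el_map {t : G} {a b a' b' : ℕ → G} (F : ExFrame t a b) (F' : ExFrame t a' b') (φ : G →* G) (ht : φ t = t)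
    {im : List ℕ} (h : ∀ i < 6, φ (qEl t a' b' (2 ^ i)) = qEl t a b (im.getD i 0)) {v : ℕ} (hv : v < 128) :
    φ (qEl t a' b' v) = qEl t a b (qAut im v) := by
  have key : ∀ (L : List ℕ), (∀ i ∈ L, i < 6) → ∀ r s, φ (qEl t a' b' r) = qEl t a b s →
      φ (qEl t a' b' (L.foldl (fun r i => if v.testBit i then qMul r (([1, 2, 4, 8, 16, 32] : List ℕ).getD i 0)
        else r) r)) = qEl t a b (L.foldl (fun r i => if v.testBit i then qMul r (im.getD i 0) else r) s) := by
    intro L
    induction L with
    | nil => exact fun _ r s e => e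
    | cons k L ih =>
      intro hL r s e
      simp only [List.foldl_cons]
      refine ih (fun i hi => hL i (List.mem_cons_of_mem _ hi)) _ _ ?_
      split_ifs
      · have hk := hL k (List.mem_cons_self ..)
        rw [← F'.el_mul, map_mul, e, ← F.el_mul]
        congr 1
        rw [← h k hk]
        congr 1
        interval_cases k <;> rfl
      · exact e
  have h0 : φ (qEl t a' b' ((v / 64) % 2 * 64)) = qEl t a b ((v / 64) % 2 * 64) := by
    rcases Nat.mod_two_eq_zero_or_one (v / 64) with e | e <;>
      simp [e, F.el_zero, F'.el_zero, F.el_top, F'.el_top, ht]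
  have := key (List.range 6) (fun i hi => List.mem_range.1 hi) _ _ h0
  have e := List.all_eq_true.1 swap_unit_check v (List.mem_range.2 hv)
  rw [beq_iff_eq] at e
  unfold qAut at e
  rw [e] at this
  exact this

/-- The first triple after the exchange. -/
def swA (t : G) (a b : ℕ → G) (i : ℕ) : G := qEl t a b (swapP.getD i 0)

/-- The second triple after the exchange. -/
def swB (t : G) (a b : ℕ → G) (i : ℕ) : G := qEl t a b (swapP.getD (3 + i) 0)

/-- The outer symmetry, with its images. -/
theorem Coords.swap_exact {t : G} {Q : Subgroup G} {x y r : G} {a b : ℕ → G}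
    (h : Coords t Q [65, 4, 2, 72, 120, 96] true x y r a b) :
    Coords t Q [65, 4, 2, 72, 120, 96] true x⁻¹ y (t * r) (swA t a b) (swB t a b) ∧
      ∀ v < 128, qEl t (swA t a b) (swB t a b) v = qEl t a b (qAut swapP v) := by
  have F := h.frame
  let a' : ℕ → G := swA t a b
  let b' : ℕ → G := swB t a b
  have hc : ∀ i < 3, ∀ j < 3, _ := fun i hi j hj =>
    List.all_eq_true.1 (List.all_eq_true.1 swap_frame_check i (List.mem_range.2 hi)) j (List.mem_range.2 hj)
  simp only [Bool.and_eq_true, beq_iff_eq] at hc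
  have cm : ∀ u v, qMul u v = qMul v u → Commute (qEl t a b u) (qEl t a b v) := fun u v e => by
    show _ = _
    rw [F.el_mul, F.el_mul, e]
  have F' : ExFrame t a' b' :=
    { tt := F.tt
      t_ne := F.t_ne
      ta := fun i hi => by
        have := (cm _ _ (hc i hi i hi).1.2).symm
        rwa [F.el_top] at this
      tb := fun i hi => by
        have := (cm _ _ (hc i hi i hi).2).symm
        rwa [F.el_top] at this
      aa := fun i hi => by
        show qEl t a b _ * qEl t a b _ = 1
        rw [F.el_mul, (hc i hi i hi).1.1.1.1.1.1, F.el_zero]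
      bb := fun i hi => by
        show qEl t a b _ * qEl t a b _ = 1
        rw [F.el_mul, (hc i hi i hi).1.1.1.1.1.2, F.el_zero]
      a_comm := fun i hi j hj => cm _ _ (hc i hi j hj).1.1.1.1.2
      b_comm := fun i hi j hj => cm _ _ (hc i hi j hj).1.1.1.2
      ab := fun i hi j hj => by
        show qEl t a b _ * qEl t a b _ = qEl t a b _ * qEl t a b _ * _
        rw [← swap_el_tB F, F.el_mul, F.el_mul, F.el_mul, (hc i hi j hj).1.1.2] }
  have hgen : ∀ i < 6, qEl t a' b' (2 ^ i) = qEl t a b (swapP.getD i 0) := fun i hi => by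
    interval_cases i
    exacts [F'.el_a (i := 0) (by norm_num), F'.el_a (i := 1) (by norm_num), F'.el_a (i := 2) (by norm_num),
      F'.el_b (i := 0) (by norm_num), F'.el_b (i := 1) (by norm_num), F'.el_b (i := 2) (by norm_num)]
  have hnew : ∀ v < 128, qEl t a' b' v = qEl t a b (qAut swapP v) := fun v hv =>
    swap_el_map F F' (MonoidHom.id G) rfl hgen hv
  have hx : t * x = x * t := (Subgroup.mem_centralizer_singleton_iff.1 h.xC).symm
  have hy : t * y = y * t := (Subgroup.mem_centralizer_singleton_iff.1 h.yC).symm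
  have hr : t * r = r * t := (Subgroup.mem_centralizer_singleton_iff.1 h.rC).symm
  have hconj : ∀ (g : G) (im : List ℕ), t * g = g * t →
      (∀ i < 6, g * qEl t a b (2 ^ i) * g⁻¹ = qEl t a b (im.getD i 0)) → ∀ v < 128,
      g * qEl t a b v * g⁻¹ = qEl t a b (qAut im v) := fun g im hg hi v hv =>
    swap_el_map F F (MulAut.conj g).toMonoidHom (by simp [← hg, mul_assoc]) hi hv
  have hsc : ∀ i < 6, _ := fun i hi => List.all_eq_true.1 swap_conj_check i (List.mem_range.2 hi)
  simp only [Bool.and_eq_true, beq_iff_eq, decide_eq_true_eq] at hsc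
  have hlt : ∀ v < 128, qAut swapP v < 128 := fun v hv => by
    have := List.all_eq_true.1 qmul_lt_check v (List.mem_range.2 hv)
    simp only [Bool.and_eq_true, decide_eq_true_eq] at this
    exact this.1
  have hsP : ∀ i < 6, swapP.getD i 0 < 128 := fun i hi => by
    interval_cases i <;> simp [swapP]
  have hsurj : ∀ v < 128, ∃ u < 128, qAut swapP u = v := fun v hv => by
    have := List.all_eq_true.1 qmul_lt_check v (List.mem_range.2 hv)
    simp only [Bool.and_eq_true, List.any_eq_true, List.mem_range, beq_iff_eq] at this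
    exact this.2
  have htQ : t ∈ Q := (h.hQ t).2 ⟨64, by norm_num, F.el_top⟩
  have hgenC : ∀ g, g ∈ Q ↔ ∃ v < 128, qEl t a' b' v = g := fun g => by
    rw [h.hQ]
    constructor
    · rintro ⟨v, hv, rfl⟩
      obtain ⟨u, hu, rfl⟩ := hsurj v hv
      exact ⟨u, hu, hnew u hu⟩
    · rintro ⟨v, hv, rfl⟩
      exact ⟨_, hlt v hv, (hnew v hv).symm⟩
  refine ⟨⟨h.good, F', hgenC, h.cardQ, h.cardC, h.hQC, inv_mem h.xC, h.yC,
    mul_mem (Subgroup.mem_centralizer_singleton_iff.2 rfl) h.rC, ?_, ?_, ?_, ?_, h.y3, ?_, ?_, ?_, ?_, ?_⟩, hnew⟩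
  · intro i hi
    rw [hgen i hi, hnew _ (hsc i hi).1.1.2]
    have := hconj x imX hx h.conjX _ (hlt _ (hsc i hi).1.1.2)
    rw [(hsc i hi).1.1.1.1.1] at this
    rw [← this]; group
  · intro i hi
    rw [hgen i hi, hnew _ (hsc i hi).1.2, hconj y imY hy h.conjY _ (hsP i hi), (hsc i hi).1.1.1.1.2]
  · intro i hi
    rw [hgen i hi, hnew _ (hsc i hi).2, ← (hsc i hi).1.1.1.2]
    have e := hconj r _ hr h.conjR _ (hsP i hi)
    rw [← e]
    have hc' : Commute t (r * qEl t a b (swapP.getD i 0) * r⁻¹) := by
      rw [e]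
      have hcm := cm 64 (qAut [65, 4, 2, 72, 120, 96] (swapP.getD i 0)) (by interval_cases i <;> decide +kernel)
      rwa [F.el_top] at hcm
    calc t * r * qEl t a b (swapP.getD i 0) * (t * r)⁻¹
        = t * (r * qEl t a b (swapP.getD i 0) * r⁻¹) * t⁻¹ := by group
      _ = _ := by rw [hc'.eq, mul_inv_cancel_right]
  · rw [inv_pow, h.x7, inv_one]
  · calc y * x⁻¹ * y⁻¹ = (y * x * y⁻¹)⁻¹ := by group
      _ = x⁻¹ * x⁻¹ := by rw [h.yx, mul_inv_rev]
  · calc t * r * y * (t * r)⁻¹ = t * (r * y * r⁻¹) * t⁻¹ := by group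
      _ = y * y := by rw [h.ry, ← mul_assoc, hy, mul_assoc y t, hy, ← mul_assoc, mul_inv_cancel_right]
  · rw [mul_assoc, ← mul_assoc r, ← hr, mul_assoc t r, ← mul_assoc, F.tt, one_mul, h.rr]
  · -- the cube of the product
    have hr2 : r * r = t := by simpa [tB] using h.rr
    have hri : r⁻¹ = t * r := inv_eq_of_mul_eq_one_right (by rw [← mul_assoc, ← hr, mul_assoc, hr2, F.tt])
    have h3 : x⁻¹ * (t * r) * (x⁻¹ * (t * r)) * (x⁻¹ * (t * r))
        = r * (x * r * (x * r) * (x * r))⁻¹ * r⁻¹ := by
      rw [← hri]; group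
    rw [h3, h.xr]; group
  · have key : Q ⊔ Subgroup.closure {x⁻¹, y, t * r} = Q ⊔ Subgroup.closure {x, y, r} := by
      refine le_antisymm (sup_le le_sup_left ?_) (sup_le le_sup_left ?_) <;>
        rw [Subgroup.closure_le] <;> intro g hg <;>
        simp only [Set.mem_insert_iff, Set.mem_singleton_iff] at hg <;> rcases hg with rfl | rfl | rfl
      · exact Subgroup.mem_sup_right (inv_mem (Subgroup.subset_closure (by simp)))
      · exact Subgroup.mem_sup_right (Subgroup.subset_closure (by simp))
      · exact mul_mem (Subgroup.mem_sup_left htQ) (Subgroup.mem_sup_right (Subgroup.subset_closure (by simp)))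
      · exact inv_inv g ▸ inv_mem (Subgroup.mem_sup_right (Subgroup.subset_closure (by simp)))
      · exact Subgroup.mem_sup_right (Subgroup.subset_closure (by simp))
      · have := mul_mem (Subgroup.mem_sup_left (inv_mem htQ) : t⁻¹ ∈ Q ⊔ Subgroup.closure {x⁻¹, y, t * g})
          (Subgroup.mem_sup_right (Subgroup.subset_closure (by simp : t * g ∈ ({x⁻¹, y, t * g} : Set G))))
        rwa [inv_mul_cancel_left] at this
    rw [key]; exact h.gen

/-- The outer symmetry. -/
theorem Coords.swap {t : G} {Q : Subgroup G} {x y r : G} {a b : ℕ → G}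
    (h : Coords t Q [65, 4, 2, 72, 120, 96] true x y r a b) :
    ∃ (x' y' r' : G) (a' b' : ℕ → G), Coords t Q [65, 4, 2, 72, 120, 96] true x' y' r' a' b' ∧ a' 0 = b 0 :=
  ⟨x⁻¹, y, t * r, swA t a b, swB t a b, h.swap_exact.1, h.frame.el_b (i := 0) (by norm_num)⟩

end CfsgLib.HeType
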