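import Cfsg.Agent.Lib.HeType.Coords.Elems
import Cfsg.Agent.Lib.HeType.Coords.LTable

/-!
Coordinates of the centraliser of the involution: the interface, and the code group.

An element of the centraliser is coded by `v + 128 * l` with `v < 128` a code of the extraspecial group and
`l < 168` a class of `lPaths`; it stands for `qEl v` times the product of the word of `l`.
-/

set_option autoImplicit false
set_option linter.unusedSectionVars false

namespace CfsgLib.HeType

variable {G : Type*} [Group G]

/-- Coordinates of `C = centralizer {t}` with normal extraspecial subgroup `Q`: images `R` of the six generators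
under `r`, and the bit `e` telling whether `r * r` is the central involution. -/
structure Coords (t : G) (Q : Subgroup G) (R : List ℕ) (e : Bool) (x y r : G) (a b : ℕ → G) : Prop where
  good : R ∈ goodR
  frame : ExFrame t a b
  hQ : ∀ g, g ∈ Q ↔ ∃ v < 128, qEl t a b v = g
  cardQ : Nat.card ↥Q = 128
  cardC : Nat.card ↥(Subgroup.centralizer ({t} : Set G)) = 21504
  hQC : Q ≤ Subgroup.centralizer ({t} : Set G)
  xC : x ∈ Subgroup.centralizer ({t} : Set G)
  yC : y ∈ Subgroup.centralizer ({t} : Set G)
  rC : r ∈ Subgroup.centralizer ({t} : Set G)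
  conjX : ∀ i < 6, x * qEl t a b (2 ^ i) * x⁻¹ = qEl t a b (imX.getD i 0)
  conjY : ∀ i < 6, y * qEl t a b (2 ^ i) * y⁻¹ = qEl t a b (imY.getD i 0)
  conjR : ∀ i < 6, r * qEl t a b (2 ^ i) * r⁻¹ = qEl t a b (R.getD i 0)
  x7 : x ^ 7 = 1
  y3 : y ^ 3 = 1
  yx : y * x * y⁻¹ = x * x
  ry : r * y * r⁻¹ = y * y
  rr : r * r = tB t e
  xr : x * r * (x * r) * (x * r) = 1
  gen : Q ⊔ Subgroup.closure {x, y, r} = Subgroup.centralizer ({t} : Set G)

/-- One of the three generators. -/
def gL (x y r : G) (k : ℕ) : G := if k = 0 then x else if k = 1 then y else r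

/-- The product of a word in the three generators. -/
def lWord (x y r : G) (w : List ℕ) : G := (w.map (gL x y r)).prod

/-- The element of a code. -/
def cEl (t : G) (a b : ℕ → G) (x y r : G) (c : ℕ) : G :=
  qEl t a b (c % 128) * lWord x y r (lPaths.getD (c / 128) [])

/-- The images under one of the three generators. -/
def imOf (R : List ℕ) (k : ℕ) : List ℕ := if k = 0 then imX else if k = 1 then imY else R

/-- The image of a code under the word of a class. -/
def lAct (R : List ℕ) (l v : ℕ) : ℕ := (lPaths.getD l []).foldr (fun k w => qAut (imOf R k) w) v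

/-- Follow a word from a class, collecting the central involution. -/
def lWalk (e : Bool) : List ℕ → ℕ → ℕ → ℕ
  | [], l, bit => l + 256 * bit
  | k :: w, l, bit =>
    let n := (lNexts.getD l []).getD k 0
    lWalk e w (n % 256) (if e then (bit + n / 256) % 2 else 0)

/-- The product of codes of the centraliser. -/
def cMul (R : List ℕ) (e : Bool) (c d : ℕ) : ℕ :=
  let lm := lWalk e (lPaths.getD (d / 128) []) (c / 128) 0
  qMul (qMul (c % 128) (lAct R (c / 128) (d % 128))) (64 * (lm / 256)) + 128 * (lm % 256)

end CfsgLib.HeType
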