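import Mathlib.Data.Nat.Bitwise
import Mathlib.Data.List.Range

/-!
Codes of the extraspecial group of order 128 with three commuting pairs of generators: the bits 0, 1, 2 are the
first three generators, 3, 4, 5 the other three, 6 the central involution.
-/

set_option autoImplicit false

namespace CfsgLib.HeType

/-- The commutator of a first and a second generator. -/
def gramH (i j : ℕ) : Bool := [true, true, true, false, true, false, false].getD ((j + 7 - i) % 7) false

/-- The correction when the second part of `v` passes the first part of `w`. -/
def betaQ (v w : ℕ) : Bool :=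
  (List.range 3).foldl (fun r i => Bool.xor r
    ((List.range 3).foldl (fun s j => Bool.xor s (w.testBit i && v.testBit (3 + j) && gramH i j)) false)) false

/-- The product of two codes. -/
def qMul (v w : ℕ) : ℕ :=
  ((v ^^^ w) % 64) + (if Bool.xor (Bool.xor (v.testBit 6) (w.testBit 6)) (betaQ v w) then 64 else 0)

/-- The image of a code under the map given by the images of the six generators. -/
def qAut (im : List ℕ) (v : ℕ) : ℕ :=
  (List.range 6).foldl (fun r i => if v.testBit i then qMul r (im.getD i 0) else r) ((v / 64) % 2 * 64)

/-- The images under the element of order seven. -/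
def imX : List ℕ := [2, 4, 3, 16, 32, 40]

/-- The images under the element of order three. -/
def imY : List ℕ := [1, 4, 6, 8, 32, 56]

/-- The images under the inverse of the element of order three. -/
def imYi : List ℕ := imY.map (qAut imY)

/-- The three possible images of the six generators under the third element. -/
def goodR : List (List ℕ) := [[65, 4, 2, 72, 120, 96], [65, 4, 2, 72, 58, 38], [65, 92, 114, 72, 120, 96]]

/-- The images determined by four of them. -/
def mkR (a0 b0 a1 b1 : ℕ) : List ℕ := [a0, a1, qAut imYi a1, b0, b1, qAut imYi b1]

/-- Do the codes commute? -/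
def qCom (v w : ℕ) : Bool := qMul v w == qMul w v

/-- Is the first candidate pair possible? -/
def okPair (a0 b0 : ℕ) : Bool :=
  !(a0 % 64 == 0) && !(b0 % 64 == 0) && (qMul a0 a0 == 0) && (qMul b0 b0 == 0) && (qCom a0 b0 == qCom 1 8)

/-- The candidates for the image of the second generator. -/
def candA (a0 b0 : ℕ) : List ℕ := (List.range 128).filter fun a1 =>
  (qMul a1 a1 == 0) && qCom a0 a1 && qCom a1 (qAut imYi a1) && (qCom b0 a1 == qCom 8 2)

/-- The candidates for the image of the fifth generator. -/
def candB (a0 b0 : ℕ) : List ℕ := (List.range 128).filter fun b1 =>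
  (qMul b1 b1 == 0) && qCom b0 b1 && qCom b1 (qAut imYi b1) && (qCom a0 b1 == qCom 1 16)

/-- All commutators are preserved. -/
def okCom (A : List ℕ) : Bool :=
  (List.range 6).all fun i => (List.range 6).all fun j => qCom (A.getD i 0) (A.getD j 0) == qCom (2 ^ i) (2 ^ j)

/-- The square is inner. -/
def okSq (A : List ℕ) : Bool := (List.range 6).all fun i => qAut A (A.getD i 0) % 64 == 2 ^ i

/-- The map commutes as it should with the element of order three. -/
def okTwist (A : List ℕ) : Bool :=
  (List.range 6).all fun i => qAut A (imY.getD i 0) == qAut imYi (A.getD i 0)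

/-- The cube of the product with the element of order seven is inner. -/
def okCube (A : List ℕ) : Bool :=
  let P := A.map (qAut imX)
  (List.range 6).all fun i => qAut P (qAut P (P.getD i 0)) % 64 == 2 ^ i

/-- The conclusion of the search. -/
def okEnd (A : List ℕ) : Bool :=
  (A.getD 0 0 % 64 == 1) && (A.getD 3 0 % 64 == 8) &&
    (!((A.getD 0 0 == 65) && (A.getD 3 0 == 72)) || goodR.contains A)

/-- One part of the search. -/
def searchR (a0 : ℕ) : Bool :=
  [1, 8, 9, 65, 72, 73].all fun b0 => !okPair a0 b0 || (candA a0 b0).all fun a1 => (candB a0 b0).all fun b1 =>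
    let A := mkR a0 b0 a1 b1
    !(okCom A && okTwist A && okSq A && okCube A) || okEnd A

end CfsgLib.HeType
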