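import Cfsg.Agent.Lib.HeType.Coords.Code

/-!
Kernel checks on the codes.
-/

set_option autoImplicit false
set_option maxRecDepth 100000
set_option Elab.async false

namespace CfsgLib.HeType

theorem fixY_check :
    ((List.range 128).all fun v => !(qAut imY v == v) || [0, 1, 8, 9, 64, 65, 72, 73].contains v) = true := by
  decide +kernel

/-- The correction depends on eight values of each part. -/
theorem beta_check :
    ((List.range 8).all fun x => (List.range 8).all fun y =>
      betaQ (8 * y) x == ((List.range 3).foldl (fun r i => Bool.xor r (x.testBit i &&
        Bool.xor (Bool.xor (y.testBit 0 && gramH i 0) (y.testBit 1 && gramH i 1)) (y.testBit 2 && gramH i 2))) false))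
      = true := by decide +kernel

theorem sep_check : ((List.range 128).all fun u => (u % 64 == 0) || [1, 2, 4, 8, 16, 32].any fun k =>
    qMul u k == qMul (qMul k u) 64) = true := by decide +kernel

theorem sq_check : ((List.range 128).all fun v => (qMul v v == 0) || (qMul v v == 64)) = true := by decide +kernel

theorem top_check : ((List.range 64).all fun v => qMul v 64 == v + 64) = true := by decide +kernel

end CfsgLib.HeType
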