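import Cfsg.Agent.Lib.HeType.Coords.Code

/-!
The search for the images of the generators under the third element.
-/

set_option autoImplicit false
set_option maxRecDepth 100000
set_option Elab.async false

namespace CfsgLib.HeType

theorem search_one : searchR 1 = true := by decide +kernel
theorem search_eight : searchR 8 = true := by decide +kernel
theorem search_nine : searchR 9 = true := by decide +kernel
theorem search_65 : searchR 65 = true := by decide +kernel
theorem search_72 : searchR 72 = true := by decide +kernel
theorem search_73 : searchR 73 = true := by decide +kernel

end CfsgLib.HeType
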