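import Mathlib
import Cfsg.Agent.Lib.HeType.Coords.CodeCheck

/-!
The elements of the extraspecial group given by the codes.
-/

set_option autoImplicit false
set_option linter.unusedSectionVars false

namespace CfsgLib.HeType

variable {G : Type*} [Group G]

/-- The central involution or one. -/
def tB (t : G) (e : Bool) : G := if e then t else 1

/-- Six generators of an extraspecial group with the central involution. -/
structure ExFrame (t : G) (a b : ℕ → G) : Prop where
  tt : t * t = 1
  t_ne : t ≠ 1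
  ta : ∀ i < 3, Commute t (a i)
  tb : ∀ i < 3, Commute t (b i)
  aa : ∀ i < 3, a i * a i = 1
  bb : ∀ i < 3, b i * b i = 1
  a_comm : ∀ i < 3, ∀ j < 3, Commute (a i) (a j)
  b_comm : ∀ i < 3, ∀ j < 3, Commute (b i) (b j)
  ab : ∀ i < 3, ∀ j < 3, b j * a i = a i * b j * tB t (gramH i j)

/-- The product of the chosen ones of three elements. -/
def p3 (a : ℕ → G) (x : ℕ) : G :=
  (if x.testBit 0 then a 0 else 1) * (if x.testBit 1 then a 1 else 1) * (if x.testBit 2 then a 2 else 1)

/-- The element of a code. -/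
def qEl (t : G) (a b : ℕ → G) (v : ℕ) : G := p3 a v * p3 b (v / 8) * tB t (v.testBit 6)

theorem qel_congr {t : G} {a b : ℕ → G} {v w : ℕ} (h : ∀ i < 7, v.testBit i = w.testBit i) :
    qEl t a b v = qEl t a b w := by
  have e : ∀ u i, (u / 8).testBit i = u.testBit (i + 3) := fun u i => by
    rw [show (8 : ℕ) = 2 ^ 3 by norm_num, Nat.testBit_div_two_pow]
  simp only [qEl, p3, e, h 0 (by norm_num), h 1 (by norm_num), h 2 (by norm_num), h 3 (by norm_num),
    h 4 (by norm_num), h 5 (by norm_num), h 6 (by norm_num)]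

theorem p3_xor {a : ℕ → G} (hs : ∀ i < 3, a i * a i = 1) (hc : ∀ i < 3, ∀ j < 3, Commute (a i) (a j)) (x y : ℕ) :
    p3 a x * p3 a y = p3 a (x ^^^ y) := by
  have hcm : ∀ i < 3, ∀ j < 3, ∀ p r : Bool, Commute (if p then a i else 1) (if r then a j else 1) := by
    intro i hi j hj p r
    cases p <;> cases r <;> first | exact hc i hi j hj | simp
  have hx : ∀ i < 3, ∀ p r : Bool,
      (if p then a i else 1) * (if r then a i else 1) = if Bool.xor p r then a i else 1 := by
    intro i hi p r
    cases p <;> cases r <;> simp [hs i hi]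
  simp only [p3, Nat.testBit_xor]
  rw [← hx 0 (by norm_num), ← hx 1 (by norm_num), ← hx 2 (by norm_num)]
  generalize x.testBit 0 = p0; generalize x.testBit 1 = p1; generalize x.testBit 2 = p2
  generalize y.testBit 0 = r0; generalize y.testBit 1 = r1; generalize y.testBit 2 = r2
  have c1 := hcm 2 (by norm_num) 0 (by norm_num) p2 r0
  have c2 := hcm 1 (by norm_num) 0 (by norm_num) p1 r0
  have c3 := hcm 2 (by norm_num) 1 (by norm_num) p2 r1
  simp only [mul_assoc]
  rw [← mul_assoc (if p2 then a 2 else 1), c1.eq, mul_assoc, ← mul_assoc (if p1 then a 1 else 1), c2.eq, mul_assoc,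
    ← mul_assoc (if p2 then a 2 else 1), c3.eq, mul_assoc]

namespace ExFrame

variable {t : G} {a b : ℕ → G} (F : ExFrame t a b)

include F

theorem tB_mul (e e' : Bool) : tB t e * tB t e' = tB t (Bool.xor e e') := by
  cases e <;> cases e' <;> simp [tB, F.tt]

theorem tB_inj {e e' : Bool} (h : tB t e = tB t e') : e = e' := by
  cases e <;> cases e' <;> simp [tB, F.t_ne, Ne.symm F.t_ne] at h ⊢

theorem tB_comm_a (e : Bool) {i : ℕ} (hi : i < 3) : Commute (tB t e) (a i) := by
  cases e <;> simp [tB, F.ta i hi]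

theorem tB_comm_b (e : Bool) {i : ℕ} (hi : i < 3) : Commute (tB t e) (b i) := by
  cases e <;> simp [tB, F.tb i hi]

theorem tB_comm_pa (e : Bool) (x : ℕ) : Commute (tB t e) (p3 a x) := by
  unfold p3
  refine ((?_ : Commute _ _).mul_right ?_).mul_right ?_ <;> split_ifs <;>
    first | exact Commute.one_right _ | exact F.tB_comm_a e (by norm_num)

theorem tB_comm_pb (e : Bool) (x : ℕ) : Commute (tB t e) (p3 b x) := by
  unfold p3
  refine ((?_ : Commute _ _).mul_right ?_).mul_right ?_ <;> split_ifs <;>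
    first | exact Commute.one_right _ | exact F.tB_comm_b e (by norm_num)

/-- `v` passes `u` with the given correction. -/
def Pass (t : G) (u v : G) (e : Bool) : Prop := v * u = u * v * tB t e

theorem pass_single {i j : ℕ} (hi : i < 3) (hj : j < 3) (p r : Bool) :
    Pass t (if p then a i else 1) (if r then b j else 1) (p && (r && gramH i j)) := by
  unfold Pass
  cases p <;> cases r <;> first | exact F.ab i hi j hj | simp [tB]

theorem pass_right {u v v' : G} {e e' : Bool} (hu : ∀ e, Commute (tB t e) u) (hv : ∀ e, Commute (tB t e) v')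
    (h : Pass t u v e) (h' : Pass t u v' e') : Pass t u (v * v') (Bool.xor e e') := by
  unfold Pass at *
  rw [mul_assoc, h', ← mul_assoc, ← mul_assoc, h, mul_assoc (u * v), (hv e).eq, ← mul_assoc,
    mul_assoc (u * v * v'), F.tB_mul, mul_assoc u]

theorem pass_left {u u' v : G} {e e' : Bool} (hu : ∀ e, Commute (tB t e) u')
    (h : Pass t u v e) (h' : Pass t u' v e') : Pass t (u * u') v (Bool.xor e e') := by
  unfold Pass at *
  rw [← mul_assoc, h, mul_assoc (u * v), (hu e).eq, ← mul_assoc, mul_assoc u v u', h', ← mul_assoc,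
    ← mul_assoc, mul_assoc (u * u' * v), F.tB_mul, Bool.xor_comm e' e]

theorem p3_pass (x y : ℕ) : p3 b y * p3 a x = p3 a x * p3 b y * tB t (betaQ (8 * y) x) := by
  have key : ∀ i < 3, Pass t (if x.testBit i then a i else 1) (p3 b y) (x.testBit i &&
      Bool.xor (Bool.xor (y.testBit 0 && gramH i 0) (y.testBit 1 && gramH i 1)) (y.testBit 2 && gramH i 2)) := by
    intro i hi
    have hu : ∀ e, Commute (tB t e) (if x.testBit i then a i else 1) := fun e => by
      split_ifs
      · exact F.tB_comm_a e hi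
      · exact Commute.one_right _
    have hv : ∀ j < 3, ∀ e, Commute (tB t e) (if y.testBit j then b j else 1) := fun j hj e => by
      split_ifs
      · exact F.tB_comm_b e hj
      · exact Commute.one_right _
    rw [Bool.and_xor_distrib_left, Bool.and_xor_distrib_left]
    exact F.pass_right hu (hv 2 (by norm_num))
      (F.pass_right hu (hv 1 (by norm_num)) (F.pass_single hi (by norm_num) _ _)
        (F.pass_single hi (by norm_num) _ _))
      (F.pass_single hi (by norm_num) _ _)
  have hu : ∀ i < 3, ∀ e, Commute (tB t e) (if x.testBit i then a i else 1) := fun i hi e => by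
    split_ifs
    · exact F.tB_comm_a e hi
    · exact Commute.one_right _
  have h := F.pass_left (hu 2 (by norm_num))
    (F.pass_left (hu 1 (by norm_num)) (key 0 (by norm_num)) (key 1 (by norm_num))) (key 2 (by norm_num))
  unfold Pass at h
  have h' : p3 b y * p3 a x = p3 a x * p3 b y * tB t (Bool.xor (Bool.xor
      (x.testBit 0 && Bool.xor (Bool.xor (y.testBit 0 && gramH 0 0) (y.testBit 1 && gramH 0 1)) (y.testBit 2 && gramH 0 2))
      (x.testBit 1 && Bool.xor (Bool.xor (y.testBit 0 && gramH 1 0) (y.testBit 1 && gramH 1 1)) (y.testBit 2 && gramH 1 2)))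
      (x.testBit 2 && Bool.xor (Bool.xor (y.testBit 0 && gramH 2 0) (y.testBit 1 && gramH 2 1)) (y.testBit 2 && gramH 2 2))) := h
  rw [h']
  congr 2
  have hb := List.all_eq_true.1 (List.all_eq_true.1 beta_check (x % 8) (List.mem_range.2 (Nat.mod_lt _ (by norm_num))))
    (y % 8) (List.mem_range.2 (Nat.mod_lt _ (by norm_num)))
  have e1 : ∀ i < 3, (x % 8).testBit i = x.testBit i := fun i hi => by
    rw [show (8 : ℕ) = 2 ^ 3 by norm_num, Nat.testBit_mod_two_pow]; simp [hi]
  have e2 : ∀ i < 3, (y % 8).testBit i = y.testBit i := fun i hi => by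
    rw [show (8 : ℕ) = 2 ^ 3 by norm_num, Nat.testBit_mod_two_pow]; simp [hi]
  have e3 : ∀ j, (8 * (y % 8)).testBit (3 + j) = (y % 8).testBit j := fun j => by
    rw [show (8 : ℕ) = 2 ^ 3 by norm_num, Nat.testBit_two_pow_mul]; simp
  have e4 : ∀ j, (8 * y).testBit (3 + j) = y.testBit j := fun j => by
    rw [show (8 : ℕ) = 2 ^ 3 by norm_num, Nat.testBit_two_pow_mul]; simp
  simp only [betaQ, List.range_succ, List.range_zero, List.nil_append, List.cons_append, List.foldl_cons,
    List.foldl_nil, Bool.false_xor, beq_iff_eq, e1 0 (by norm_num), e1 1 (by norm_num), e1 2 (by norm_num), e3,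
    e2 0 (by norm_num), e2 1 (by norm_num), e2 2 (by norm_num)] at hb
  simp only [betaQ, List.range_succ, List.range_zero, List.nil_append, List.cons_append, List.foldl_cons,
    List.foldl_nil, Bool.false_xor, e4]
  rw [hb]

theorem el_mul (v w : ℕ) : qEl t a b v * qEl t a b w = qEl t a b (qMul v w) := by
  have hbeta : betaQ (8 * (v / 8)) w = betaQ v w := by
    have e : ∀ j, (8 * (v / 8)).testBit (3 + j) = v.testBit (3 + j) := fun j => by
      rw [show (8 : ℕ) = 2 ^ 3 by norm_num, Nat.testBit_two_pow_mul]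
      simp only [show 3 ≤ 3 + j by omega, decide_true, Bool.true_and, Nat.add_sub_cancel_left,
        show (2 : ℕ) ^ 3 = 8 by norm_num]
      rw [show (8 : ℕ) = 2 ^ 3 by norm_num, Nat.testBit_div_two_pow, Nat.add_comm 3 j]
    simp only [betaQ, e]
  have hlow : ∀ i < 7, (qMul v w).testBit i = if i = 6 then Bool.xor (Bool.xor (v.testBit 6) (w.testBit 6)) (betaQ v w)
      else (v ^^^ w).testBit i := by
    intro i hi
    unfold qMul
    generalize Bool.xor (Bool.xor (v.testBit 6) (w.testBit 6)) (betaQ v w) = e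
    have hlt : (v ^^^ w) % 64 < 2 ^ 6 := Nat.mod_lt _ (by norm_num)
    have e64 : (v ^^^ w) % 64 = (v ^^^ w) % 2 ^ 6 := rfl
    cases e
    · simp only [Bool.false_eq_true, if_false, add_zero]
      rw [e64, Nat.testBit_mod_two_pow]
      rcases eq_or_ne i 6 with rfl | hne
      · simp
      · simp [hne, show i < 6 by omega]
    · simp only [if_true]
      rw [show (v ^^^ w) % 64 + 64 = 2 ^ 6 * 1 + (v ^^^ w) % 64 by ring, Nat.testBit_two_pow_mul_add 1 hlt]
      rcases eq_or_ne i 6 with rfl | hne
      · simp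
      · simp [hne, show i < 6 by omega, e64, Nat.testBit_mod_two_pow]
  have hd : ∀ u k : ℕ, (u / 8).testBit k = u.testBit (k + 3) := fun u k => by
    rw [show (8 : ℕ) = 2 ^ 3 by norm_num, Nat.testBit_div_two_pow]
  have h1 : p3 a (qMul v w) = p3 a (v ^^^ w) := by
    simp [p3, hlow 0 (by norm_num), hlow 1 (by norm_num), hlow 2 (by norm_num)]
  have h2 : p3 b (qMul v w / 8) = p3 b (v / 8 ^^^ w / 8) := by
    simp only [p3, Nat.testBit_xor, hd, hlow 3 (by norm_num), hlow 4 (by norm_num), hlow 5 (by norm_num),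
      show (3 : ℕ) ≠ 6 by norm_num, show (4 : ℕ) ≠ 6 by norm_num, show (5 : ℕ) ≠ 6 by norm_num, if_false,
      Nat.zero_add, show 1 + 3 = 4 by norm_num, show 2 + 3 = 5 by norm_num]
  have h6 : (qMul v w).testBit 6 = Bool.xor (Bool.xor (v.testBit 6) (w.testBit 6)) (betaQ v w) := by
    simpa using hlow 6 (by norm_num)
  simp only [qEl]
  rw [h1, h2, h6, ← p3_xor F.aa F.a_comm, ← p3_xor F.bb F.b_comm]
  have c1 : Commute (tB t (v.testBit 6)) (p3 a w * p3 b (w / 8)) :=
    (F.tB_comm_pa _ _).mul_right (F.tB_comm_pb _ _)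
  have c2 : Commute (tB t (betaQ v w)) (p3 b (w / 8)) := F.tB_comm_pb _ _
  have hp := F.p3_pass w (v / 8)
  rw [hbeta] at hp
  calc p3 a v * p3 b (v / 8) * tB t (v.testBit 6) * (p3 a w * p3 b (w / 8) * tB t (w.testBit 6))
      = p3 a v * p3 b (v / 8) * (tB t (v.testBit 6) * (p3 a w * p3 b (w / 8))) * tB t (w.testBit 6) := by
        simp only [mul_assoc]
    _ = p3 a v * (p3 b (v / 8) * p3 a w) * p3 b (w / 8) * (tB t (v.testBit 6) * tB t (w.testBit 6)) := by
        rw [c1.eq]; simp only [mul_assoc]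
    _ = p3 a v * p3 a w * p3 b (v / 8) * (tB t (betaQ v w) * p3 b (w / 8)) *
          (tB t (v.testBit 6) * tB t (w.testBit 6)) := by rw [hp]; simp only [mul_assoc]
    _ = p3 a v * p3 a w * (p3 b (v / 8) * p3 b (w / 8)) *
          (tB t (betaQ v w) * (tB t (v.testBit 6) * tB t (w.testBit 6))) := by rw [c2.eq]; simp only [mul_assoc]
    _ = _ := by
        rw [F.tB_mul, F.tB_mul]
        congr 2
        exact Bool.xor_comm _ _

theorem el_zero : qEl t a b 0 = 1 := by simp [qEl, p3, tB]

theorem el_top : qEl t a b 64 = t := by simp [qEl, p3, tB, Nat.testBit_eq_decide_div_mod_eq]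

theorem el_a {i : ℕ} (hi : i < 3) : qEl t a b (2 ^ i) = a i := by
  interval_cases i <;> simp [qEl, p3, tB, Nat.testBit_eq_decide_div_mod_eq]

theorem el_b {i : ℕ} (hi : i < 3) : qEl t a b (2 ^ (3 + i)) = b i := by
  interval_cases i <;> simp [qEl, p3, tB, Nat.testBit_eq_decide_div_mod_eq]

theorem el_central {u : ℕ} (hu : u < 128) (h : qEl t a b u = 1 ∨ qEl t a b u = t) : u % 64 = 0 := by
  by_contra h0
  have hu' := List.all_eq_true.1 sep_check u (List.mem_range.2 hu)
  simp only [Bool.or_eq_true, beq_iff_eq, List.any_eq_true, h0, false_or] at hu'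
  obtain ⟨k, -, hk⟩ := hu'
  have hcomm : qEl t a b u * qEl t a b k = qEl t a b k * qEl t a b u := by
    rcases h with e | e <;> rw [e]
    · rw [one_mul, mul_one]
    · exact ((F.tB_comm_pa true k).mul_right (F.tB_comm_pb true (k / 8))).mul_right (by
        cases k.testBit 6 <;> simp [tB])
  rw [F.el_mul, F.el_mul, hk, ← F.el_mul, F.el_top] at hcomm
  exact F.t_ne (mul_eq_left.1 hcomm)

theorem el_inj {v w : ℕ} (hv : v < 128) (hw : w < 128) (h : qEl t a b v = qEl t a b w) : v = w := by
  have hlt : qMul v w < 128 := by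
    unfold qMul
    split_ifs <;> omega
  have hsq := List.all_eq_true.1 sq_check v (List.mem_range.2 hv)
  simp only [Bool.or_eq_true, beq_iff_eq] at hsq
  have hu : qEl t a b (qMul v w) = 1 ∨ qEl t a b (qMul v w) = t := by
    rw [← F.el_mul, ← h, F.el_mul]
    rcases hsq with e | e <;> rw [e]
    · exact .inl F.el_zero
    · exact .inr F.el_top
  have h0 := F.el_central hlt hu
  have hx : (v ^^^ w) % 64 = 0 := by
    unfold qMul at h0
    split_ifs at h0 <;> omega
  have he : v % 64 = w % 64 := by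
    rw [show (64 : ℕ) = 2 ^ 6 by norm_num, Nat.xor_mod_two_pow] at hx
    exact Nat.eq_of_xor_eq_zero hx
  by_contra hne
  rcases (show (v < 64 ∧ w = v + 64) ∨ (w < 64 ∧ v = w + 64) by omega) with ⟨hl, e⟩ | ⟨hl, e⟩
  · have e2 := List.all_eq_true.1 top_check v (List.mem_range.2 hl)
    rw [e, ← eq_of_beq e2, ← F.el_mul, F.el_top] at h
    exact F.t_ne (left_eq_mul.1 h)
  · have e2 := List.all_eq_true.1 top_check w (List.mem_range.2 hl)
    rw [e, ← eq_of_beq e2, ← F.el_mul, F.el_top] at h
    exact F.t_ne (mul_eq_left.1 h)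

end ExFrame

end CfsgLib.HeType
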