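import Cfsg.Agent.Lib.HeType.Coords.ExistsLocal
import Cfsg.Agent.Lib.LargeExtra.Extraspecial

/-!
Coordinates of the centraliser of the involution from the structure of its largest normal subgroup of two-power order.
-/

set_option autoImplicit false
set_option linter.unusedSectionVars false

namespace CfsgLib.HeType

open Subgroup Cfsg Matrix

variable {G : Type*} [Group G] [Finite G]

theorem qEl_coe {C : Subgroup G} (t : ↥C) (a b : ℕ → ↥C) (v : ℕ) :
    qEl (t : G) (fun i => (a i : G)) (fun i => (b i : G)) v = ((qEl t a b v : ↥C) : G) := by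
  simp only [qEl, p3, tB, Subgroup.coe_mul, apply_ite (Subtype.val : ↥C → G), Subgroup.coe_one]

/-- Coordinates exist. -/
theorem exists_coords (t : G) (ht : orderOf t = 2) (Q : Subgroup (Subgroup.centralizer ({t} : Set G))) [Q.Normal]
    (hQ : Cfsg.IsExtraspecial 2 Q) (hcard : Nat.card Q = 2 ^ 7)
    (h2c : Subgroup.centralizer (Q : Set (Subgroup.centralizer ({t} : Set G))) ≤ Q)
    (ε : (Subgroup.centralizer ({t} : Set G)) ⧸ Q ≃* Matrix.SpecialLinearGroup (Fin 3) (ZMod 2)) :
    ∃ (R : List ℕ) (e : Bool) (x y r : G) (a b : ℕ → G),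
      Coords t (Q.map (Subgroup.centralizer ({t} : Set G)).subtype) R e x y r a b := by
  classical
  set T : ↥(Subgroup.centralizer ({t} : Set G)) := ⟨t, mem_centralizer_singleton_iff.2 rfl⟩ with hT
  have hcent : ∀ h : ↥(Subgroup.centralizer ({t} : Set G)), Commute T h := fun h => Subtype.ext (mem_centralizer_singleton_iff.1 h.2).symm
  have htQ : T ∈ Q := h2c (mem_centralizer_iff.2 fun u _ => (hcent u).eq.symm)
  have ht1 : t ≠ 1 := fun h => by simp [h] at ht
  have hcentre : ∀ z ∈ center ↥Q, InT T (z : ↥(Subgroup.centralizer ({t} : Set G))) := by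
    intro z hz
    obtain ⟨g, hgc, -, hg⟩ := CfsgLib.LargeExtra.exists_centre_gen hQ
    have hTc : (⟨T, htQ⟩ : ↥Q) ∈ center ↥Q := mem_center_iff.2 fun u => Subtype.ext (hcent u).eq.symm
    have hTg : (⟨T, htQ⟩ : ↥Q) = g := (hg _ hTc).resolve_left fun h =>
      ht1 (congrArg (fun w : ↥Q => ((w : ↥(Subgroup.centralizer ({t} : Set G))) : G)) h)
    rcases hg z hz with rfl | rfl
    · exact .inl rfl
    · exact .inr (congrArg Subtype.val hTg.symm)
  have L : Loc T Q := by
    refine ⟨Subtype.ext ?_, fun h => ht1 (congrArg Subtype.val h), hcent, htQ,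
      fun g u hu => Normal.conj_mem inferInstance u hu g, by rw [hcard]; norm_num, ?_, ?_, ?_⟩
    · show t * t = 1
      rw [← pow_two, ← ht, pow_orderOf_eq_one]
    · intro u hu v hv
      exact hcentre _ (CfsgLib.LargeExtra.comm_mem_center hQ ⟨u, hu⟩ ⟨v, hv⟩)
    · intro u hu
      exact hcentre _ (CfsgLib.LargeExtra.sq_mem_center hQ ⟨u, hu⟩)
    · intro u hu h
      exact hcentre ⟨u, hu⟩ (mem_center_iff.2 fun v => Subtype.ext (h v v.2).eq.symm)
  let φ : ↥(Subgroup.centralizer ({t} : Set G)) →* SpecialLinearGroup (Fin 3) (ZMod 2) := ε.toMonoidHom.comp (QuotientGroup.mk' Q)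
  have hker : φ.ker = Q := by
    ext g
    show ε (QuotientGroup.mk' Q g) = 1 ↔ g ∈ Q
    rw [ε.map_eq_one_iff, QuotientGroup.mk'_apply, QuotientGroup.eq_one_iff]
  have hsur : Function.Surjective φ := ε.surjective.comp (QuotientGroup.mk'_surjective Q)
  obtain ⟨R, e, x, y, r, a, b, hR, F, hQm, cX, cY, cR, x7, y3, yx, ry, rr, xr, -, hgen, hcardC⟩ :=
    exists_local L hQ h2c φ hsur hker
  have hq : ∀ v, qEl t (fun i => (a i : G)) (fun i => (b i : G)) v = ((qEl T a b v : _) : G) := qEl_coe T a b
  refine ⟨R, e, x, y, r, fun i => a i, fun i => b i, ?_⟩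
  refine
    { good := hR
      frame := ⟨?_, ht1, ?_, ?_, ?_, ?_, ?_, ?_, ?_⟩
      hQ := ?_
      cardQ := ?_
      cardC := hcardC
      hQC := ?_
      xC := x.2
      yC := y.2
      rC := r.2
      conjX := fun i hi => by
        rw [hq, hq, ← cX i hi]; rfl
      conjY := fun i hi => by
        rw [hq, hq, ← cY i hi]; rfl
      conjR := fun i hi => by
        rw [hq, hq, ← cR i hi]; rfl
      x7 := by simpa using congrArg Subtype.val x7
      y3 := by simpa using congrArg Subtype.val y3
      yx := by simpa using congrArg Subtype.val yx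
      ry := by simpa using congrArg Subtype.val ry
      rr := ?_
      xr := by simpa using congrArg Subtype.val xr
      gen := ?_ }
  · exact congrArg Subtype.val F.tt
  · exact fun i hi => congrArg Subtype.val (F.ta i hi).eq
  · exact fun i hi => congrArg Subtype.val (F.tb i hi).eq
  · exact fun i hi => congrArg Subtype.val (F.aa i hi)
  · exact fun i hi => congrArg Subtype.val (F.bb i hi)
  · exact fun i hi j hj => congrArg Subtype.val (F.a_comm i hi j hj).eq
  · exact fun i hi j hj => congrArg Subtype.val (F.b_comm i hi j hj).eq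
  · intro i hi j hj
    refine (congrArg Subtype.val (F.ab i hi j hj)).trans ?_
    cases gramH i j <;> simp [tB, hT]
  · intro g
    simp only [Subgroup.mem_map, hq]
    constructor
    · rintro ⟨u, hu, rfl⟩
      obtain ⟨v, hv, rfl⟩ := (hQm u).1 hu
      exact ⟨v, hv, rfl⟩
    · rintro ⟨v, hv, rfl⟩
      exact ⟨_, (hQm _).2 ⟨v, hv, rfl⟩, rfl⟩
  · rw [Subgroup.card_map_of_injective (Subgroup.centralizer ({t} : Set G)).subtype_injective, hcard]; norm_num
  · exact map_subtype_le Q
  · cases e <;> simpa [tB, hT] using congrArg Subtype.val rr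
  · have h := congrArg (Subgroup.map (Subgroup.centralizer ({t} : Set G)).subtype) hgen
    rw [Subgroup.map_sup, MonoidHom.map_closure, ← MonoidHom.range_eq_map, range_subtype, Set.image_insert_eq,
      Set.image_insert_eq, Set.image_singleton] at h
    exact h

end CfsgLib.HeType
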