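import Cfsg.Agent.Lib.HeType.Coords.FrameTwo
import Cfsg.Agent.Lib.HeType.Coords.Basic

/-!
The six generators of the extraspecial group adapted to the elements of order seven and three.
-/

set_option autoImplicit false
set_option linter.unusedSectionVars false

namespace CfsgLib.HeType

open Subgroup

variable {H : Type*} [Group H] [Finite H] {t : H} {Q : Subgroup H} {x y : H}

namespace Loc7

theorem inT_of_shift (L : Loc7 t Q x y) {u : H} (hu : u ∈ Q) {k m : ℕ} (hkm : k * m % 7 = 1)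
    (h : InT t (orb x u k * u⁻¹)) : InT t u := by
  obtain ⟨e, he⟩ := L.inT_tB h
  have hc : ∀ z, Commute (tB t e) z := fun z => by
    rw [← he]; exact (L.commute_inT h).symm
  have h1 : orb x u k = u * tB t e := by
    rw [← (hc u).eq, ← he]; group
  have hi : ∀ i : ℕ, orb x u (k * i) = u * tB t e ^ i := by
    intro i
    induction i with
    | zero => simp [orb]
    | succ i ih =>
      rw [Nat.mul_succ, Nat.add_comm, ← orb_orb, ih]
      show x ^ k * (u * tB t e ^ i) * (x ^ k)⁻¹ = _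
      calc _ = (x ^ k * u * (x ^ k)⁻¹) * (x ^ k * tB t e ^ i * (x ^ k)⁻¹) := by group
        _ = (u * tB t e) * tB t e ^ i := by
          rw [show x ^ k * u * (x ^ k)⁻¹ = u * tB t e from h1,
            show x ^ k * tB t e ^ i * (x ^ k)⁻¹ = tB t e ^ i by
              rw [← ((hc (x ^ k)).pow_left i).eq, mul_inv_cancel_right]]
        _ = _ := by rw [pow_succ', mul_assoc]
  have e2 : tB t e * tB t e = 1 := by cases e <;> simp [tB, L.tt]
  have h7 := hi 7
  rw [L.orb_mod, show k * 7 % 7 = 0 by omega,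
    show tB t e ^ 7 = tB t e by simp [pow_succ, e2]] at h7
  have he1 : tB t e = 1 := by
    have h0 : orb x u 0 = u := by simp [orb]
    rw [h0] at h7
    exact left_eq_mul.1 h7
  rw [he1, mul_one] at h1
  refine L.fix u hu ?_
  have hk : Commute (x ^ k) u := mul_inv_eq_iff_eq_mul.1 h1
  have := hk.pow_left m
  rwa [← pow_mul, L.x_pow_mod, hkm, pow_one] at this

theorem p3_inT (L : Loc7 t Q x y) {a0 : H} (ha : a0 ∈ half t Q x 1 3) (hne : ¬ InT t a0)
    (hrel : a0 * orb x a0 1 * orb x a0 3 = 1) {v : ℕ} (hv : v < 8) (h : InT t (p3 (orb x a0) v)) : v = 0 := by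
  have hA : ∀ i, orb x a0 i ∈ half t Q x 1 3 := by
    intro i
    induction i with
    | zero => simpa [orb] using ha
    | succ i ih => rw [orb_succ]; exact (L.quotient_facts 1 3).2 _ ih
  have sq : ∀ i, (orb x a0 i)⁻¹ = orb x a0 i := fun i => inv_eq_of_mul_eq_one_right (L.half_sq (hA i))
  have h0 : orb x a0 0 = a0 := by simp [orb]
  have e3 : orb x a0 3 = orb x a0 1 * a0 := by
    rw [← inv_eq_of_mul_eq_one_right hrel, mul_inv_rev, sq, ← h0, sq, h0]
  have single : ∀ i, ¬ InT t (orb x a0 i) := fun i hi => by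
    refine hne ?_
    have e1 : a0 = (x ^ i)⁻¹ * orb x a0 i * ((x ^ i)⁻¹)⁻¹ := by simp only [orb]; group
    rw [e1, L.inT_conj _ hi]
    exact hi
  have p01 : ¬ InT t (a0 * orb x a0 1) := fun hh => by
    refine single 3 ?_
    rw [e3, (L.half_commute (hA 1) ha).eq]
    exact hh
  have cg : ∀ g u, InT t (g * u * g⁻¹) → InT t u := fun g u hh => by
    have e1 : u = g⁻¹ * (g * u * g⁻¹) * (g⁻¹)⁻¹ := by group
    rw [e1, L.inT_conj _ hh]
    exact hh
  have o2 : orb x a0 2 = x * orb x a0 1 * x⁻¹ := orb_succ a0 1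
  interval_cases v <;> simp [p3, Nat.testBit_eq_decide_div_mod_eq, h0] at h ⊢
  · exact hne h
  · exact single 1 h
  · exact p01 h
  · exact single 2 h
  · refine hne (L.inT_of_shift ha.1 (k := 2) (m := 4) rfl ?_)
    rw [← h0, sq, h0, (L.half_commute (hA 2) ha).eq]
    exact h
  · refine p01 (cg x _ ?_)
    rw [show x * (a0 * orb x a0 1) * x⁻¹ = (x * a0 * x⁻¹) * (x * orb x a0 1 * x⁻¹) by group, ← o2,
      show x * a0 * x⁻¹ = orb x a0 1 by simp [orb]]
    exact h
  · refine p01 ?_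
    rw [← (L.half_commute (hA 1) ha).eq]
    refine cg (x ^ 2) _ ?_
    have e : x ^ 2 * (orb x a0 1 * a0) * (x ^ 2)⁻¹ = orb x a0 3 * orb x a0 2 := by
      rw [show orb x a0 3 = orb x (orb x a0 1) 2 by rw [orb_orb]]
      simp only [orb]; group
    rw [e, e3, (L.half_commute (hA 1) ha).eq]
    exact h

theorem span_half (L : Loc7 t Q x y) {a0 : H} (ha : a0 ∈ half t Q x 1 3) (hne : ¬ InT t a0)
    (hrel : a0 * orb x a0 1 * orb x a0 3 = 1) {u : H} (hu : u ∈ half t Q x 1 3) :
    ∃ v e, u = p3 (orb x a0) v * tB t e := by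
  obtain ⟨S, hS, hcard⟩ := L.half_card
  have mem : ∀ w, w ∈ S ↔ w ∈ half t Q x 1 3 := fun w => by rw [← SetLike.mem_coe, hS]
  have hA : ∀ i, orb x a0 i ∈ half t Q x 1 3 := by
    intro i
    induction i with
    | zero => simpa [orb] using ha
    | succ i ih => rw [orb_succ]; exact (L.quotient_facts 1 3).2 _ ih
  have hT : ∀ e, tB t e ∈ S := fun e => by
    cases e
    · exact one_mem S
    · exact (mem _).2 ⟨L.tQ, .inr (by simp only [tB, if_true, orb, L.conj_t]; rw [L.tt, one_mul])⟩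
  have hp : ∀ v, p3 (orb x a0) v ∈ S := fun v => by
    unfold p3
    refine mul_mem (mul_mem ?_ ?_) ?_ <;> split_ifs <;> first | exact one_mem S | exact (mem _).2 (hA _)
  let f : Fin 8 × Bool → ↥S := fun p => ⟨p3 (orb x a0) p.1 * tB t p.2, mul_mem (hp _) (hT _)⟩
  have hinj : Function.Injective f := by
    rintro ⟨v, e⟩ ⟨w, e'⟩ h
    have h' : p3 (orb x a0) (v : ℕ) * tB t e = p3 (orb x a0) (w : ℕ) * tB t e' := congrArg Subtype.val h
    have hx := p3_xor (a := orb x a0) (fun i _ => L.half_sq (hA i))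
      (fun i _ j _ => L.half_commute (hA i) (hA j))
    have hI : InT t (p3 (orb x a0) ((v : ℕ) ^^^ (w : ℕ))) := by
      rw [← hx]
      have e1 : p3 (orb x a0) (v : ℕ) = p3 (orb x a0) (w : ℕ) * (tB t e' * (tB t e)⁻¹) := by
        rw [← mul_assoc, ← h', mul_inv_cancel_right]
      have hw : p3 (orb x a0) (w : ℕ) * p3 (orb x a0) (w : ℕ) = 1 := L.half_sq ((mem _).1 (hp _))
      have hc : ∀ z, Commute (tB t e' * (tB t e)⁻¹) z := fun z => by
        cases e <;> cases e' <;> simp [tB, L.cent z, (L.cent z).inv_left]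
      rw [e1, mul_assoc, (hc _).eq, ← mul_assoc, hw, one_mul]
      cases e <;> cases e' <;> simp [tB, InT, inv_eq_of_mul_eq_one_right L.tt, L.tt]
    have h0 := L.p3_inT ha hne hrel (Nat.xor_lt_two_pow (n := 3) v.2 w.2) hI
    have hvw : v = w := Fin.ext (Nat.eq_of_xor_eq_zero h0)
    subst hvw
    have h2 : tB t e = tB t e' := mul_left_cancel h'
    refine Prod.ext rfl ?_
    cases e <;> cases e' <;> simp [tB, L.t_ne, Ne.symm L.t_ne] at h2 ⊢
  have hsur := ((Nat.bijective_iff_injective_and_card f).2 ⟨hinj, by simp [hcard]⟩).2 ⟨u, (mem u).2 hu⟩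
  obtain ⟨⟨v, e⟩, h⟩ := hsur
  exact ⟨v, e, (congrArg Subtype.val h).symm⟩

/-- The six generators. -/
theorem exists_frame (L : Loc7 t Q x y) : ∃ a b : ℕ → H, ExFrame t a b ∧
    (∀ g, g ∈ Q ↔ ∃ v < 128, qEl t a b v = g) ∧
    (∀ i < 6, x * qEl t a b (2 ^ i) * x⁻¹ = qEl t a b (imX.getD i 0)) ∧
    (∀ i < 6, y * qEl t a b (2 ^ i) * y⁻¹ = qEl t a b (imY.getD i 0)) := by
  obtain ⟨-, -, -, -, h56, h65⟩ := L.mod_facts
  obtain ⟨hdec, -⟩ := L.mod_facts
  obtain ⟨a0, ha, hane, hya, harel⟩ := L.exists_fixed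
  obtain ⟨b0, hb, hbne, hyb, hbrel⟩ := L.inv.exists_fixed
  set a := orb x a0 with haDef
  set b := orb x b0 with hbDef
  have hA : ∀ i, a i ∈ half t Q x 1 3 := by
    intro i
    induction i with
    | zero => simpa [haDef, orb] using ha
    | succ i ih => rw [haDef, orb_succ]; exact (L.quotient_facts 1 3).2 _ ih
  have hB : ∀ i, b i ∈ half t Q x 2 3 := by
    intro i
    induction i with
    | zero => simpa [hbDef, orb] using h65 b0 hb
    | succ i ih => rw [hbDef, orb_succ]; exact (L.quotient_facts 2 3).2 _ ih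
  have hAc : ∀ i j, Commute (a i) (a j) := fun i j => L.half_commute (hA i) (hA j)
  have hBc : ∀ i j, Commute (b i) (b j) := fun i j => L.inv.half_commute (h56 _ (hB i)) (h56 _ (hB j))
  have hAs : ∀ i, a i * a i = 1 := fun i => L.half_sq (hA i)
  have hBs : ∀ i, b i * b i = 1 := fun i => L.inv.half_sq (h56 _ (hB i))
  have inv_b : ∀ i j, (i + j) % 7 = 0 → orb x⁻¹ b0 i = b j := fun i j hij => by
    have : (x⁻¹) ^ i = x ^ j := by
      rw [inv_pow, inv_eq_iff_mul_eq_one, ← pow_add, L.x_pow_mod, hij, pow_zero]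
    simp only [hbDef, orb, this]
  have a_succ : ∀ i, x * a i * x⁻¹ = a (i + 1) := fun i => (orb_succ a0 i).symm
  have b_succ : ∀ i, x * b i * x⁻¹ = b (i + 1) := fun i => (orb_succ b0 i).symm
  have a0' : a 0 = a0 := by simp [haDef, orb]
  have b0' : b 0 = b0 := by simp [hbDef, orb]
  have a3 : a 3 = a 0 * a 1 := by
    rw [← inv_eq_of_mul_eq_one_right harel, ← a0', mul_inv_rev, inv_eq_of_mul_eq_one_right (hAs 1),
      inv_eq_of_mul_eq_one_right (hAs 0)]
    exact (hAc 1 0).eq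
  have b3 : b 3 = b 0 * b 2 := by
    rw [inv_b 1 6 rfl, inv_b 3 4 rfl, ← b0'] at hbrel
    have h := congrArg (fun z => x ^ 3 * z * (x ^ 3)⁻¹) hbrel
    have e : x ^ 3 * (b 0 * b 6 * b 4) * (x ^ 3)⁻¹ = orb x (b 0) 3 * orb x (b 6) 3 * orb x (b 4) 3 := by
      simp only [orb]; group
    have e1 : orb x (b 6) 3 = b 2 := by
      rw [hbDef, orb_orb, L.orb_mod b0 (3 + 6)]
    have e2 : orb x (b 4) 3 = b 0 := by
      rw [hbDef, orb_orb, L.orb_mod b0 (3 + 4)]
    have e0 : orb x (b 0) 3 = b 3 := by rw [hbDef, orb_orb]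
    rw [e, e0, e1, e2, mul_one, mul_inv_cancel, mul_assoc, mul_eq_one_iff_eq_inv, mul_inv_rev,
      inv_eq_of_mul_eq_one_right (hBs 0), inv_eq_of_mul_eq_one_right (hBs 2)] at h
    exact h
  have a4 : a 4 = a 1 * a 2 := by
    calc a 4 = x * a 3 * x⁻¹ := (a_succ 3).symm
      _ = (x * a 0 * x⁻¹) * (x * a 1 * x⁻¹) := by rw [a3]; group
      _ = _ := by rw [a_succ, a_succ]
  have b4 : b 4 = b 1 * b 3 := by
    calc b 4 = x * b 3 * x⁻¹ := (b_succ 3).symm
      _ = (x * b 0 * x⁻¹) * (x * b 2 * x⁻¹) := by rw [b3]; group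
      _ = _ := by rw [b_succ, b_succ]
  have b5 : b 5 = b 2 * b 4 := by
    calc b 5 = x * b 4 * x⁻¹ := (b_succ 4).symm
      _ = (x * b 1 * x⁻¹) * (x * b 3 * x⁻¹) := by rw [b4]; group
      _ = _ := by rw [b_succ, b_succ]
  have ya : ∀ i, y * a i * y⁻¹ = a (2 * i) := fun i => L.orb_y a0 i hya
  have yb : ∀ i, y * b i * y⁻¹ = b (2 * i) := fun i => L.orb_y b0 i hyb
  have mA : ∀ i, a i ∈ Q := fun i => (hA i).1
  have mB : ∀ i, b i ∈ Q := fun i => (hB i).1
  have step : ∀ j, Commute a0 (b (2 * j)) ↔ Commute a0 (b j) := by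
    intro j
    rw [← yb, show Commute a0 (y * b j * y⁻¹) ↔ Commute (y * a0 * y⁻¹) (y * b j * y⁻¹) by
      rw [hya.eq, mul_inv_cancel_right]]
    exact L.commute_conj y
  have c2 := step 1
  have c4 := step 2
  have c6 := step 3
  have c5 : Commute a0 (b 5) ↔ Commute a0 (b 6) := by
    have := step 6
    rwa [show b (2 * 6) = b 5 by rw [hbDef, L.orb_mod b0 (2 * 6)]] at this
  have d3 : Commute a0 (b 3) ↔ (Commute a0 (b 0) ↔ Commute a0 (b 2)) := by
    rw [b3]; exact L.commute_mul_iff ha.1 (mB 0) (mB 2)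
  have d4 : Commute a0 (b 4) ↔ (Commute a0 (b 1) ↔ Commute a0 (b 3)) := by
    rw [b4]; exact L.commute_mul_iff ha.1 (mB 1) (mB 3)
  have n1 : ¬ Commute a0 (b 1) := by
    intro c1
    have d1 := c2.2 c1
    have d2 := c4.2 d1
    have e3 : Commute a0 (b 3) := (d4.1 d2).1 c1
    have e0 : Commute a0 (b 0) := (d3.1 e3).2 d1
    have e6 : Commute a0 (b 6) := c6.2 e3
    have e5 : Commute a0 (b 5) := c5.2 e6
    refine hane (L.zQ a0 ha.1 fun v hv => ?_)
    obtain ⟨va, hva, vb, hvb, rfl⟩ := hdec v hv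
    obtain ⟨w, e, rfl⟩ := L.inv.span_half hb hbne hbrel (h56 vb hvb)
    refine (L.half_commute ha hva).mul_right (Commute.mul_right ?_ (L.commute_inT ?_))
    · unfold p3
      rw [inv_b 0 0 rfl, inv_b 1 6 rfl, inv_b 2 5 rfl]
      refine Commute.mul_right (Commute.mul_right ?_ ?_) ?_ <;> split_ifs <;>
        first | exact Commute.one_right _ | exact e0 | exact e6 | exact e5
    · cases e
      exacts [.inl rfl, .inr rfl]
  have n2 : ¬ Commute a0 (b 2) := mt c2.1 n1
  have n4 : ¬ Commute a0 (b 4) := mt c4.1 n2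
  have p3' : Commute a0 (b 3) := by tauto
  have n0 : ¬ Commute a0 (b 0) := by tauto
  have p6 : Commute a0 (b 6) := c6.2 p3'
  have p5 : Commute a0 (b 5) := c5.2 p6
  have hcomm : ∀ i j, i < 3 → j < 3 → (Commute (a i) (b j) ↔ gramH i j = false) := by
    intro i j hi hj
    have e : b j = x ^ i * b ((j + 7 - i) % 7) * (x ^ i)⁻¹ := by
      show _ = orb x (b ((j + 7 - i) % 7)) i
      rw [hbDef, orb_orb, L.orb_mod b0 j, L.orb_mod b0 (i + (j + 7 - i) % 7)]
      congr 1
      omega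
    rw [e, show a i = x ^ i * a0 * (x ^ i)⁻¹ from rfl, L.commute_conj]
    interval_cases i <;> interval_cases j <;> simp [gramH, n0, n1, n2, n4, p3', p5, p6]
  have F : ExFrame t a b := by
    refine ⟨L.tt, L.t_ne, fun i _ => L.cent _, fun i _ => L.cent _, fun i _ => hAs i, fun i _ => hBs i,
      fun i _ j _ => hAc i j, fun i _ j _ => hBc i j, fun i hi j hj => ?_⟩
    have h := hcomm i j hi hj
    cases hg : gramH i j
    · simp only [tB, Bool.false_eq_true, if_false, mul_one]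
      exact ((h.2 hg).symm).eq
    · simp only [tB, if_true]
      rcases L.comm (b j) (mB j) (a i) (mA i) with hc | hc
      · exfalso
        have : Commute (a i) (b j) := by
          rw [mul_inv_eq_one, mul_inv_eq_iff_eq_mul] at hc; exact Commute.symm hc
        rw [h, hg] at this
        exact Bool.noConfusion this
      · rw [← (L.cent (a i * b j)).eq, ← hc]; group
  have hmemQ : ∀ v, qEl t a b v ∈ Q := fun v => by
    have ht : ∀ e, tB t e ∈ Q := fun e => by cases e; exacts [one_mem Q, L.tQ]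
    simp only [qEl, p3]
    refine mul_mem (mul_mem (mul_mem (mul_mem ?_ ?_) ?_) (mul_mem (mul_mem ?_ ?_) ?_)) (ht _) <;> split_ifs <;>
      first | exact one_mem Q | exact mA _ | exact mB _
  refine ⟨a, b, F, fun g => ⟨fun hg => ?_, ?_⟩, fun i hi => ?_, fun i hi => ?_⟩
  · let f : Fin 128 → ↥Q := fun v => ⟨qEl t a b v, hmemQ v⟩
    have hinj : Function.Injective f := fun v w h => Fin.ext (F.el_inj v.2 w.2 (congrArg Subtype.val h))
    obtain ⟨v, hv⟩ := ((Nat.bijective_iff_injective_and_card f).2 ⟨hinj, by simp [L.cardQ]⟩).2 ⟨g, hg⟩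
    exact ⟨v, v.2, congrArg Subtype.val hv⟩
  · rintro ⟨v, -, rfl⟩
    exact hmemQ v
  · have b23 : b 3 = b 0 * b 2 := b3
    interval_cases i <;>
      simp [imX, qEl, p3, tB, Nat.testBit_eq_decide_div_mod_eq, a_succ, b_succ, a3, b3]
  · have b14 : b 4 = b 0 * b 1 * b 2 := by
      rw [b4, b3, ← mul_assoc, (hBc 1 0).eq]
    interval_cases i <;>
      simp [imY, qEl, p3, tB, Nat.testBit_eq_decide_div_mod_eq, ya, yb, a4, b14]

end Loc7

end CfsgLib.HeType
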