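import Cfsg.Agent.Lib.HeType.Coords.Frame
import Cfsg.Agent.Lib.HeType.Coords.Act
import Cfsg.Agent.Lib.HeType.Coords.Basic
import Cfsg.Agent.Lib.HeType.Coords.CodeSearch

/-!
The images of the six generators under a lift of the third element.
-/

set_option autoImplicit false
set_option linter.unusedSectionVars false
set_option maxRecDepth 100000
set_option Elab.async false

namespace CfsgLib.HeType

theorem top_mod : ((List.range 6).all fun i =>
    (qMul (2 ^ i) 0 % 64 == 2 ^ i) && (qMul (2 ^ i) 64 % 64 == 2 ^ i)) = true := by decide +kernel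

theorem com_check : qCom 1 2 = true ∧ qCom 2 4 = true ∧ qCom 8 16 = true ∧ qCom 16 32 = true := by decide +kernel

variable {H : Type*} [Group H] [Finite H] {t : H} {Q : Subgroup H} {a b : ℕ → H} {x y r : H}

theorem images_of (L : Loc t Q) (F : ExFrame t a b) (hQ : ∀ g, g ∈ Q ↔ ∃ v < 128, qEl t a b v = g)
    (conjX : ∀ i < 6, x * qEl t a b (2 ^ i) * x⁻¹ = qEl t a b (imX.getD i 0))
    (conjY : ∀ i < 6, y * qEl t a b (2 ^ i) * y⁻¹ = qEl t a b (imY.getD i 0))
    (y3 : y ^ 3 = 1) (ry : r * y * r⁻¹ = y * y) (rr : r * r ∈ Q) (xr : x * r * (x * r) * (x * r) ∈ Q) :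
    ∃ A : List ℕ, (∀ i < 6, r * qEl t a b (2 ^ i) * r⁻¹ = qEl t a b (A.getD i 0)) ∧
      (A.getD 0 0 = 1 ∨ A.getD 0 0 = 65) ∧ (A.getD 3 0 = 8 ∨ A.getD 3 0 = 72) ∧
      (A.getD 0 0 = 65 → A.getD 3 0 = 72 → A ∈ goodR) := by
  have hgt : ∀ g, Commute g t := fun g => (L.cent g).symm
  have conjYi : ∀ v < 128, y⁻¹ * qEl t a b v * y = qEl t a b (qAut imY (qAut imY v)) := by
    intro v hv
    have e : y⁻¹ = y * y := inv_eq_of_mul_eq_one_right (by rw [← mul_assoc, ← pow_two, ← pow_succ, y3])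
    rw [← F.conj_el (hgt y) conjY (qAut_lt imY v), ← F.conj_el (hgt y) conjY hv]
    calc y⁻¹ * qEl t a b v * y = y⁻¹ * qEl t a b v * (y⁻¹)⁻¹ := by rw [inv_inv]
      _ = (y * y) * qEl t a b v * (y * y)⁻¹ := by rw [e]
      _ = _ := by group
  have conjYi' : ∀ v < 128, y⁻¹ * qEl t a b v * y = qEl t a b (qAut imYi v) := by
    intro v hv
    have h6 : ∀ i < 6, y⁻¹ * qEl t a b (2 ^ i) * (y⁻¹)⁻¹ = qEl t a b (imYi.getD i 0) := by
      intro i hi
      have h2 : 2 ^ i < 128 := by interval_cases i <;> norm_num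
      have e1 : qAut imY (2 ^ i) = imY.getD i 0 := F.el_inj (qAut_lt _ _) (images_bound (by simp) i)
        ((F.conj_el (hgt y) conjY h2).symm.trans (conjY i hi))
      rw [inv_inv, conjYi _ h2, e1]
      congr 1
      interval_cases i <;> rfl
    have := F.conj_el (hgt y⁻¹) h6 hv
    rwa [inv_inv] at this
  have hv : ∀ i, i < 6 → ∃ v < 128, qEl t a b v = r * qEl t a b (2 ^ i) * r⁻¹ := fun i hi =>
    (hQ _).1 (L.conjQ r _ ((hQ _).2 ⟨2 ^ i, by interval_cases i <;> norm_num, rfl⟩))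
  choose! v hvlt hveq using hv
  have yr : y * r = r * (y * y) := by
    have h1 : r * (y * y) * r⁻¹ = y := by
      rw [show r * (y * y) * r⁻¹ = (r * y * r⁻¹) * (r * y * r⁻¹) by group, ry,
        show y * y * (y * y) = y ^ 3 * y by simp only [pow_succ, pow_zero, one_mul, mul_assoc], y3, one_mul]
    exact (mul_inv_eq_iff_eq_mul.1 h1).symm
  have twist : ∀ q, r * (y * q * y⁻¹) * r⁻¹ = y⁻¹ * (r * q * r⁻¹) * y := fun q => by
    have e : y * y = y⁻¹ := (inv_eq_of_mul_eq_one_right (by rw [← mul_assoc, ← pow_two, ← pow_succ, y3])).symm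
    calc r * (y * q * y⁻¹) * r⁻¹ = (r * y * r⁻¹) * (r * q * r⁻¹) * (r * y * r⁻¹)⁻¹ := by group
      _ = _ := by rw [ry, e, inv_inv]
  have e2 : v 2 = qAut imYi (v 1) := by
    refine F.el_inj (hvlt 2 (by norm_num)) (qAut_lt _ _) ?_
    rw [hveq 2 (by norm_num), ← conjYi' _ (hvlt 1 (by norm_num)), hveq 1 (by norm_num), ← twist,
      conjY 1 (by norm_num)]
    rfl
  have e5 : v 5 = qAut imYi (v 4) := by
    refine F.el_inj (hvlt 5 (by norm_num)) (qAut_lt _ _) ?_
    rw [hveq 5 (by norm_num), ← conjYi' _ (hvlt 4 (by norm_num)), hveq 4 (by norm_num), ← twist,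
      conjY 4 (by norm_num)]
    rfl
  set A := mkR (v 0) (v 3) (v 1) (v 4) with hA
  have hAi : ∀ i < 6, A.getD i 0 = v i := by
    intro i hi
    interval_cases i <;> simp [hA, mkR, e2, e5]
  have hconj : ∀ i < 6, r * qEl t a b (2 ^ i) * r⁻¹ = qEl t a b (A.getD i 0) := fun i hi => by
    rw [hAi i hi, hveq i hi]
  have hsq : ∀ i < 6, qMul (v i) (v i) = 0 := fun i hi => by
    refine F.el_inj (qMul_lt _ _) (by norm_num) ?_
    rw [← F.el_mul, hveq i hi, F.el_zero, show r * qEl t a b (2 ^ i) * r⁻¹ * (r * qEl t a b (2 ^ i) * r⁻¹) =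
      r * (qEl t a b (2 ^ i) * qEl t a b (2 ^ i)) * r⁻¹ by group, F.el_mul,
      show qMul (2 ^ i) (2 ^ i) = 0 by interval_cases i <;> rfl, F.el_zero]
    group
  have hcom : ∀ i < 6, ∀ j < 6, qCom (v i) (v j) = qCom (2 ^ i) (2 ^ j) := fun i hi j hj => by
    rw [Bool.eq_iff_iff, F.qCom_iff, F.qCom_iff, hveq i hi, hveq j hj]
    exact L.commute_conj r
  have hne : ∀ i < 6, v i % 64 ≠ 0 := fun i hi h => by
    have hT : InT t (qEl t a b (v i)) := by
      rcases (show v i = 0 ∨ v i = 64 by have := hvlt i hi; omega) with e | e <;> rw [e]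
      exacts [.inl F.el_zero, .inr F.el_top]
    rw [hveq i hi] at hT
    have hT2 : InT t (qEl t a b (2 ^ i)) := by
      have e : qEl t a b (2 ^ i) = r⁻¹ * (r * qEl t a b (2 ^ i) * r⁻¹) * (r⁻¹)⁻¹ := by group
      rw [e, L.inT_conj _ hT]
      exact hT
    have := F.el_central (u := 2 ^ i) (by interval_cases i <;> norm_num) hT2
    interval_cases i <;> norm_num at this
  have hfix : ∀ i, i = 0 ∨ i = 3 → v i ∈ [1, 8, 9, 65, 72, 73] := fun i hi => by
    have hi6 : i < 6 := by omega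
    have hy : y * qEl t a b (v i) * y⁻¹ = qEl t a b (v i) := by
      have hyq : y * qEl t a b (2 ^ i) * y⁻¹ = qEl t a b (2 ^ i) := by
        rcases hi with rfl | rfl <;> rw [conjY _ hi6] <;> rfl
      have hyc : Commute y (qEl t a b (2 ^ i)) := mul_inv_eq_iff_eq_mul.1 hyq
      rw [hveq i hi6]
      calc y * (r * qEl t a b (2 ^ i) * r⁻¹) * y⁻¹ = (y * r) * qEl t a b (2 ^ i) * (y * r)⁻¹ := by group
        _ = r * ((y * y) * qEl t a b (2 ^ i) * (y * y)⁻¹) * r⁻¹ := by rw [yr]; group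
        _ = _ := by rw [(hyc.mul_left hyc).eq]; group
    rw [F.conj_el (hgt y) conjY (hvlt i hi6)] at hy
    have h := List.all_eq_true.1 fixY_check (v i) (List.mem_range.2 (hvlt i hi6))
    have h0 := hne i hi6
    simp only [F.el_inj (qAut_lt _ _) (hvlt i hi6) hy, beq_self_eq_true, Bool.not_true, Bool.false_or,
      List.contains_iff_mem] at h
    simp only [List.mem_cons, List.not_mem_nil, or_false] at h ⊢
    omega
  have hctw : okTwist A = true := by
    refine List.all_eq_true.2 fun i hi => beq_iff_eq.2 ?_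
    have hi' := List.mem_range.1 hi
    refine F.el_inj (qAut_lt _ _) (qAut_lt _ _) ?_
    rw [← F.conj_el (hgt r) hconj (images_bound (by simp) i), ← conjY i hi', twist, hconj i hi', conjYi' _ (by
      rw [hAi i hi']; exact hvlt i hi')]
  have inner : ∀ k ∈ Q, ∀ i < 6, ∀ c < 128, k * qEl t a b (2 ^ i) * k⁻¹ = qEl t a b c → c % 64 = 2 ^ i := by
    intro k hk i hi c hc h
    obtain ⟨e, he⟩ := L.inT_tB (L.comm k hk (qEl t a b (2 ^ i)) ((hQ _).2 ⟨_, by interval_cases i <;> norm_num, rfl⟩))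
    have hcc : qEl t a b c = qEl t a b (qMul (2 ^ i) (if e then 64 else 0)) := by
      rw [← F.el_mul, ← h, show k * qEl t a b (2 ^ i) * k⁻¹ =
        (k * qEl t a b (2 ^ i) * k⁻¹ * (qEl t a b (2 ^ i))⁻¹) * qEl t a b (2 ^ i) by group, he]
      cases e
      · simp [tB, F.el_zero]
      · simp only [tB, if_true, F.el_top]
        exact (L.cent _).eq
    rw [F.el_inj hc (qMul_lt _ _) hcc]
    have hm := List.all_eq_true.1 top_mod i (List.mem_range.2 hi)
    simp only [Bool.and_eq_true, beq_iff_eq] at hm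
    cases e <;> simp [hm.1, hm.2]
  have hcsq : okSq A = true := by
    refine List.all_eq_true.2 fun i hi => beq_iff_eq.2 ?_
    have hi' := List.mem_range.1 hi
    refine inner (r * r) rr i hi' _ (qAut_lt _ _) ?_
    rw [← F.conj_el (hgt r) hconj (by rw [hAi i hi']; exact hvlt i hi'), ← hconj i hi']
    group
  have hccube : okCube A = true := by
    refine List.all_eq_true.2 fun i hi => beq_iff_eq.2 ?_
    have hi' := List.mem_range.1 hi
    have hP : ∀ j < 6, (x * r) * qEl t a b (2 ^ j) * (x * r)⁻¹ = qEl t a b ((A.map (qAut imX)).getD j 0) := by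
      intro j hj
      have eP : (A.map (qAut imX)).getD j 0 = qAut imX (A.getD j 0) := by
        interval_cases j <;> simp [hA, mkR]
      rw [eP, ← F.conj_el (hgt x) conjX (by rw [hAi j hj]; exact hvlt j hj), ← hconj j hj]
      group
    have hb : ∀ j < 6, (A.map (qAut imX)).getD j 0 < 128 := by
      intro j hj
      interval_cases j <;> simp [hA, mkR, qAut_lt]
    refine inner (x * r * (x * r) * (x * r)) xr i hi' _ (qAut_lt _ _) ?_
    rw [← F.conj_el (hgt (x * r)) hP (qAut_lt _ _), ← F.conj_el (hgt (x * r)) hP (hb i hi'), ← hP i hi']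
    group
  have hccom : okCom A = true := by
    refine List.all_eq_true.2 fun i hi => List.all_eq_true.2 fun j hj => beq_iff_eq.2 ?_
    rw [hAi i (List.mem_range.1 hi), hAi j (List.mem_range.1 hj)]
    exact hcom i (List.mem_range.1 hi) j (List.mem_range.1 hj)
  obtain ⟨c12, c24, c816, c1632⟩ := com_check
  have hm1 : v 1 ∈ candA (v 0) (v 3) := by
    refine List.mem_filter.2 ⟨List.mem_range.2 (hvlt 1 (by norm_num)), ?_⟩
    simp only [Bool.and_eq_true, beq_iff_eq]
    refine ⟨⟨⟨hsq 1 (by norm_num), ?_⟩, ?_⟩, hcom 3 (by norm_num) 1 (by norm_num)⟩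
    · rw [hcom 0 (by norm_num) 1 (by norm_num)]; exact c12
    · rw [← e2, hcom 1 (by norm_num) 2 (by norm_num)]; exact c24
  have hm4 : v 4 ∈ candB (v 0) (v 3) := by
    refine List.mem_filter.2 ⟨List.mem_range.2 (hvlt 4 (by norm_num)), ?_⟩
    simp only [Bool.and_eq_true, beq_iff_eq]
    refine ⟨⟨⟨hsq 4 (by norm_num), ?_⟩, ?_⟩, hcom 0 (by norm_num) 4 (by norm_num)⟩
    · rw [hcom 3 (by norm_num) 4 (by norm_num)]; exact c816
    · rw [← e5, hcom 4 (by norm_num) 5 (by norm_num)]; exact c1632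
  have hpair : okPair (v 0) (v 3) = true := by
    simp only [okPair, Bool.and_eq_true, Bool.not_eq_true', beq_iff_eq, beq_eq_false_iff_ne]
    exact ⟨⟨⟨⟨hne 0 (by norm_num), hne 3 (by norm_num)⟩, hsq 0 (by norm_num)⟩, hsq 3 (by norm_num)⟩,
      hcom 0 (by norm_num) 3 (by norm_num)⟩
  have hs : searchR (v 0) = true := by
    have h := hfix 0 (.inl rfl)
    simp only [List.mem_cons, List.not_mem_nil, or_false] at h
    rcases h with e | e | e | e | e | e <;> rw [e]
    exacts [search_one, search_eight, search_nine, search_65, search_72, search_73]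
  have h1 := List.all_eq_true.1 hs (v 3) (hfix 3 (.inr rfl))
  simp only [hpair, Bool.not_true, Bool.false_or, List.all_eq_true] at h1
  have h2 := h1 _ hm1 _ hm4
  simp only [← hA, hccom, hctw, hcsq, hccube, Bool.and_self, Bool.not_true, Bool.false_or, okEnd,
    Bool.and_eq_true, beq_iff_eq, Bool.or_eq_true, Bool.not_eq_true', Bool.and_eq_false_iff,
    beq_eq_false_iff_ne, List.contains_iff_mem] at h2
  have b0 : A.getD 0 0 < 128 := by rw [hAi 0 (by norm_num)]; exact hvlt 0 (by norm_num)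
  have b3 : A.getD 3 0 < 128 := by rw [hAi 3 (by norm_num)]; exact hvlt 3 (by norm_num)
  obtain ⟨⟨ha0, ha3⟩, hg⟩ := h2
  refine ⟨A, hconj, by omega, by omega, fun p q => ?_⟩
  rcases hg with (n | n) | n
  · exact absurd p n
  · exact absurd q n
  · exact n

end CfsgLib.HeType
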