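import Mathlib
import Cfsg.Agent.Lib.HeType.Coords.LTable

/-!
Three generators of the group of three by three matrices of determinant one over two elements, with the matrix of
each of the 168 classes.
-/

set_option autoImplicit false
set_option maxRecDepth 100000
set_option Elab.async false

namespace CfsgLib.HeType

open Matrix

/-- The matrix of a code of nine bits. -/
def decM (c : ℕ) : Matrix (Fin 3) (Fin 3) (ZMod 2) :=
  Matrix.of fun i j => if c.testBit (3 * i.val + j.val) then 1 else 0

/-- The matrices of the 168 classes. -/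
def slLit : List ℕ := [
  273, 94, 125, 124, 426, 342, 286, 423, 348, 277, 417, 345, 187, 431, 474, 318, 382, 106, 86, 140, 395, 394, 
  489, 95, 142, 397, 396, 494, 229, 467, 188, 419, 299, 215, 159, 98, 482, 443, 359, 303, 410, 241, 481, 181, 
  179, 172, 428, 339, 282, 242, 486, 183, 421, 177, 425, 314, 230, 174, 335, 205, 285, 250, 225, 473, 465, 141, 
  107, 236, 271, 267, 207, 143, 165, 403, 460, 330, 99, 171, 407, 415, 244, 270, 500, 501, 213, 498, 499, 249, 
  185, 477, 379, 87, 247, 266, 206, 212, 214, 190, 354, 375, 111, 84, 93, 355, 334, 204, 302, 156, 253, 492, 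
  485, 445, 377, 161, 233, 116, 117, 372, 226, 491, 461, 157, 442, 305, 337, 114, 110, 102, 279, 351, 275, 358, 
  468, 412, 340, 115, 103, 370, 346, 254, 478, 470, 459, 307, 444, 298, 409, 313, 331, 369, 169, 122, 167, 405, 
  401, 309, 317, 311, 239, 163, 380, 92, 123, 458, 281, 158, 234, 85]

/-- The codes of the three generators. -/
def slGen (k : ℕ) : ℕ := if k = 0 then 94 else if k = 1 then 125 else 124

theorem slGen_det : (decM (slGen 0)).det = 1 ∧ (decM (slGen 1)).det = 1 ∧ (decM (slGen 2)).det = 1 := by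
  simp only [Matrix.det_fin_three]
  decide +kernel

/-- The generator of order seven. -/
def slX : SpecialLinearGroup (Fin 3) (ZMod 2) := ⟨decM (slGen 0), slGen_det.1⟩

/-- The generator of order three. -/
def slY : SpecialLinearGroup (Fin 3) (ZMod 2) := ⟨decM (slGen 1), slGen_det.2.1⟩

/-- The third generator. -/
def slR : SpecialLinearGroup (Fin 3) (ZMod 2) := ⟨decM (slGen 2), slGen_det.2.2⟩

theorem sl_rels : slX ^ 7 = 1 ∧ slY ^ 3 = 1 ∧ slY * slX * slY⁻¹ = slX ^ 2 ∧ slR * slY * slR⁻¹ = slY ^ 2 ∧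
    slR * slR = 1 ∧ (slX * slR) ^ 3 = 1 ∧ slX ≠ 1 ∧ slY ≠ 1 := by
  have h1 : slY * slX = slX ^ 2 * slY := by decide +kernel
  have h2 : slR * slY = slY ^ 2 * slR := by decide +kernel
  refine ⟨?_, ?_, mul_inv_eq_iff_eq_mul.2 h1, mul_inv_eq_iff_eq_mul.2 h2, ?_, ?_, ?_, ?_⟩ <;> decide +kernel

theorem lit_zero : decM (slLit.getD 0 0) = 1 := by decide +kernel

theorem lit_step : ∀ l : Fin 168, ∀ k : Fin 3, decM (slLit.getD l.val 0) * decM (slGen k.val) =
    decM (slLit.getD ((lNexts.getD l.val []).getD k.val 0 % 256) 0) := by decide +kernel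

theorem lit_next : ((List.range 168).all fun l => (l == 0) || (List.range l).any fun m => (List.range 3).any fun k =>
    (lNexts.getD m []).getD k 0 % 256 == l) = true := by decide +kernel

theorem lit_cover : ((List.range 512).all fun c => slLit.contains c ||
    decide ((decM c 0 0) * (decM c 1 1) * (decM c 2 2) - (decM c 0 0) * (decM c 1 2) * (decM c 2 1)
      - (decM c 0 1) * (decM c 1 0) * (decM c 2 2) + (decM c 0 1) * (decM c 1 2) * (decM c 2 0)
      + (decM c 0 2) * (decM c 1 0) * (decM c 2 1) - (decM c 0 2) * (decM c 1 1) * (decM c 2 0) ≠ 1)) = true := by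
  decide +kernel

theorem lit_length : slLit.length = 168 := by decide +kernel

theorem lit_nodup : slLit.Nodup ∧ ∀ c ∈ slLit, c < 512 := by decide +kernel

theorem decM_inj : ∀ c d : Fin 512, decM c.val = decM d.val → c = d := by
  intro c d h
  apply Fin.ext
  refine Nat.eq_of_testBit_eq fun k => ?_
  rcases lt_or_ge k 9 with hk | hk
  · have h2 := congrFun (congrFun h ⟨k / 3, by omega⟩) ⟨k % 3, by omega⟩
    simp only [decM, Matrix.of_apply, show 3 * (k / 3) + k % 3 = k from Nat.div_add_mod k 3] at h2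
    revert h2
    cases c.val.testBit k <;> cases d.val.testBit k <;> simp
  · rw [Nat.testBit_lt_two_pow (c.2.trans_le ((by norm_num : (512 : ℕ) ≤ 2 ^ 9).trans (Nat.pow_le_pow_right (by norm_num) hk))),
      Nat.testBit_lt_two_pow (d.2.trans_le ((by norm_num : (512 : ℕ) ≤ 2 ^ 9).trans (Nat.pow_le_pow_right (by norm_num) hk)))]

theorem sl_elem : ∀ l, l < 168 → ∃ h ∈ Subgroup.closure ({slX, slY, slR} : Set (SpecialLinearGroup (Fin 3) (ZMod 2))),
    (h : Matrix (Fin 3) (Fin 3) (ZMod 2)) = decM (slLit.getD l 0) := by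
  set L := Subgroup.closure ({slX, slY, slR} : Set (SpecialLinearGroup (Fin 3) (ZMod 2)))
  intro l
  induction l using Nat.strong_induction_on with
  | _ l ih =>
    intro hl
    have h := List.all_eq_true.1 lit_next l (List.mem_range.2 hl)
    simp only [Bool.or_eq_true, beq_iff_eq, List.any_eq_true, List.mem_range] at h
    rcases h with rfl | ⟨m, hm, k, hk, e⟩
    · exact ⟨1, one_mem _, lit_zero.symm⟩
    · obtain ⟨g, hg, hgm⟩ := ih m hm (by omega)
      obtain ⟨s, hs, hsm⟩ : ∃ s ∈ L, (s : Matrix (Fin 3) (Fin 3) (ZMod 2)) = decM (slGen k) := by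
        interval_cases k
        · exact ⟨slX, Subgroup.subset_closure (by simp), rfl⟩
        · exact ⟨slY, Subgroup.subset_closure (by simp), rfl⟩
        · exact ⟨slR, Subgroup.subset_closure (by simp), rfl⟩
      refine ⟨g * s, mul_mem hg hs, ?_⟩
      refine (show (g * s).1 = g.1 * s.1 from rfl).trans ?_
      rw [show g.1 = _ from hgm, show s.1 = _ from hsm, lit_step ⟨m, by omega⟩ ⟨k, hk⟩, e]

theorem sl_cases (g : SpecialLinearGroup (Fin 3) (ZMod 2)) :
    ∃ l < 168, (g : Matrix (Fin 3) (Fin 3) (ZMod 2)) = decM (slLit.getD l 0) := by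
  have hsurj : ∀ M : Matrix (Fin 3) (Fin 3) (ZMod 2), ∃ c < 512, decM c = M := by
    intro M
    refine ⟨(M 0 0).val + 2 * (M 0 1).val + 4 * (M 0 2).val + 8 * (M 1 0).val + 16 * (M 1 1).val +
      32 * (M 1 2).val + 64 * (M 2 0).val + 128 * (M 2 1).val + 256 * (M 2 2).val, ?_, ?_⟩
    · have := fun i j => (M i j).val_lt
      have := this 0 0; have := fun i j => (M i j).val_lt
      linarith [this 0 0, this 0 1, this 0 2, this 1 0, this 1 1, this 1 2, this 2 0, this 2 1, this 2 2]
    · have hbit : ∀ a b c d e f g h i : ZMod 2, ∀ k : Fin 9,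
          (a.val + 2 * b.val + 4 * c.val + 8 * d.val + 16 * e.val + 32 * f.val + 64 * g.val + 128 * h.val +
            256 * i.val).testBit k.val = decide ([a, b, c, d, e, f, g, h, i].getD k.val 0 = 1) := by decide +kernel
      have h2 : ∀ a : ZMod 2, (if decide (a = 1) = true then (1 : ZMod 2) else 0) = a := by decide
      ext i j
      simp only [decM, Matrix.of_apply]
      rw [show 3 * i.val + j.val = (⟨3 * i.val + j.val, by omega⟩ : Fin 9).val from rfl, hbit]
      fin_cases i <;> fin_cases j <;> exact h2 _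
  obtain ⟨c, hc, e⟩ := hsurj g
  have h := List.all_eq_true.1 lit_cover c (List.mem_range.2 hc)
  simp only [Bool.or_eq_true, decide_eq_true_eq, List.contains_iff_mem] at h
  rcases h with h | h
  · obtain ⟨l, hl, rfl⟩ := List.mem_iff_getElem.1 h
    exact ⟨l, lit_length ▸ hl, by rw [List.getD_eq_getElem _ _ hl, e]⟩
  · exact absurd (by rw [← Matrix.det_fin_three, e]; exact g.2) h

theorem sl_closure : Subgroup.closure ({slX, slY, slR} : Set (SpecialLinearGroup (Fin 3) (ZMod 2))) = ⊤ := by
  rw [eq_top_iff]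
  intro g _
  obtain ⟨l, hl, e⟩ := sl_cases g
  obtain ⟨g', hg', eg⟩ := sl_elem l hl
  rwa [← Subtype.ext (a1 := g') (a2 := g) (eg.trans e.symm)]

theorem sl_card : Nat.card (SpecialLinearGroup (Fin 3) (ZMod 2)) = 168 := by
  choose f hf hfe using sl_elem
  let F : Fin 168 → SpecialLinearGroup (Fin 3) (ZMod 2) := fun l => f l.val l.2
  have hlt : ∀ l : Fin 168, slLit.getD l.val 0 < 512 := fun l => by
    rw [List.getD_eq_getElem _ _ (lit_length.symm ▸ l.2 : l.val < slLit.length)]
    exact lit_nodup.2 _ (List.getElem_mem _)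
  have hinj : Function.Injective F := fun l m h => by
    have h2 : decM (slLit.getD l.val 0) = decM (slLit.getD m.val 0) :=
      ((hfe l.val l.2).symm.trans (congrArg Subtype.val h)).trans (hfe m.val m.2)
    have h3 := congrArg Fin.val (decM_inj ⟨_, hlt l⟩ ⟨_, hlt m⟩ h2)
    simp only at h3
    rw [List.getD_eq_getElem _ _ (lit_length.symm ▸ l.2 : l.val < slLit.length), List.getD_eq_getElem _ _ (lit_length.symm ▸ m.2 : m.val < slLit.length)] at h3
    exact Fin.ext (lit_nodup.1.getElem_inj_iff.1 h3)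
  have hsur : Function.Surjective F := fun g => by
    obtain ⟨l, hl, e⟩ := sl_cases g
    exact ⟨⟨l, hl⟩, Subtype.ext ((hfe l hl).trans e.symm)⟩
  rw [← Nat.card_eq_of_bijective F ⟨hinj, hsur⟩, Nat.card_eq_fintype_card, Fintype.card_fin]

end CfsgLib.HeType
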