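import Cfsg.Agent.Lib.HeType.Coords.Fix
import Cfsg.Agent.Lib.HeType.Coords.FrameThree
import Cfsg.Agent.Lib.HeType.Coords.RImages
import Cfsg.Agent.Lib.HeType.Coords.SLThree

/-!
Coordinates inside the centraliser.
-/

set_option autoImplicit false
set_option linter.unusedSectionVars false
set_option maxRecDepth 100000

namespace CfsgLib.HeType

open Subgroup Cfsg Matrix

variable {H : Type*} [Group H] [Finite H] {t : H} {Q : Subgroup H}

theorem exists_local (L : Loc t Q) (hE : IsExtraspecial 2 ↥Q) (h2c : centralizer (Q : Set H) ≤ Q)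
    (φ : H →* SpecialLinearGroup (Fin 3) (ZMod 2)) (hsur : Function.Surjective φ) (hker : φ.ker = Q) :
    ∃ (R : List ℕ) (e : Bool) (x y r : H) (a b : ℕ → H), R ∈ goodR ∧ ExFrame t a b ∧
      (∀ g, g ∈ Q ↔ ∃ v < 128, qEl t a b v = g) ∧
      (∀ i < 6, x * qEl t a b (2 ^ i) * x⁻¹ = qEl t a b (imX.getD i 0)) ∧
      (∀ i < 6, y * qEl t a b (2 ^ i) * y⁻¹ = qEl t a b (imY.getD i 0)) ∧
      (∀ i < 6, r * qEl t a b (2 ^ i) * r⁻¹ = qEl t a b (R.getD i 0)) ∧
      x ^ 7 = 1 ∧ y ^ 3 = 1 ∧ y * x * y⁻¹ = x * x ∧ r * y * r⁻¹ = y * y ∧ r * r = tB t e ∧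
      x * r * (x * r) * (x * r) = 1 ∧ (φ x = slX ∧ φ y = slY ∧ φ r = slR) ∧
      Q ⊔ closure ({x, y, r} : Set H) = ⊤ ∧ Nat.card H = 21504 := by
  haveI : Fact (Nat.Prime 7) := ⟨by norm_num⟩
  haveI : Fact (Nat.Prime 3) := ⟨by norm_num⟩
  obtain ⟨sX, sY, sYX, sRY, sR, sXR, sX1, sY1⟩ := sl_rels
  have hmk : ∀ k : H, φ k = 1 ↔ k ∈ Q := fun k => by rw [← hker]; rfl
  have hk4 : ∀ k ∈ Q, k ^ 4 = 1 := fun k hk => by
    have h := L.sq k hk
    rw [show k ^ 4 = (k * k) * (k * k) by simp only [pow_succ, pow_zero, one_mul, mul_assoc]]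
    rcases h with h | h <;> rw [h]
    exacts [one_mul 1, L.tt]
  obtain ⟨h0, hh0⟩ := hsur slX
  obtain ⟨x, hφx, hx7⟩ := exists_lift_order φ sX hh0 (m := 8) (fun k hk => by
    rw [show 8 = 4 * 2 from rfl, pow_mul, hk4 k ((hmk k).1 hk), one_pow]) (by
      rw [show 8 = 7 + 1 from rfl, pow_succ, sX, one_mul])
  have hmove : ∃ u ∈ Q, ¬ Commute x u := by
    by_contra hc
    simp only [not_exists, not_and, not_not] at hc
    refine sX1 ?_
    rw [← hφx]
    exact (hmk x).2 (h2c (mem_centralizer_iff.2 fun u hu => (hc u hu).eq.symm))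
  have hfix := L.fix_of hE hx7 hmove
  have hcop7 : (Nat.card ↥φ.ker).Coprime 7 := by rw [hker, L.cardQ]; norm_num
  have hcop3 : (Nat.card ↥φ.ker).Coprime 3 := by rw [hker, L.cardQ]; norm_num
  obtain ⟨y1, hφy1, hy1x⟩ := exists_lift_normal φ hsur hcop7 hx7 (by rw [hφx]; exact sX1) (k := 2) (Y := slY)
    (by rw [hφx]; exact sYX)
  set y := y1 ^ 16 with hy
  have hφy : φ y = slY := by
    rw [hy, map_pow, hφy1, show 16 = 3 * 5 + 1 from rfl, pow_succ, pow_mul, sY, one_pow, one_mul]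
  have hy3 : y ^ 3 = 1 := by
    rw [hy, ← pow_mul, show 16 * 3 = 3 * (4 * 4) from rfl, pow_mul, pow_mul]
    rw [hk4 (y1 ^ 3) ((hmk _).1 (by rw [map_pow, hφy1, sY])), one_pow]
  have hyx : y * x * y⁻¹ = x * x := by
    rw [hy, conj_iter hy1x 16, pow_eq_pow_mod _ hx7, show 2 ^ 16 % 7 = 2 by norm_num, pow_two]
  have L7 : Loc7 t Q x y := { toLoc := L, x7 := hx7, fix := hfix, y3 := hy3, yx := hyx }
  obtain ⟨a, b, F, hQ, conjX, conjY⟩ := L7.exists_frame
  obtain ⟨r1, hφr1, hr1y⟩ := exists_lift_normal φ hsur hcop3 hy3 (by rw [hφy]; exact sY1) (k := 2) (Y := slR)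
    (by rw [hφy]; exact sRY)
  rw [pow_two] at hr1y
  have hgt : ∀ g, Commute g t := fun g => (L.cent g).symm
  have hrrQ : ∀ r : H, φ r = slR → r * r ∈ Q := fun r h => (hmk _).1 (by rw [map_mul, h, sR])
  have hxrQ : ∀ r : H, φ r = slR → x * r * (x * r) * (x * r) ∈ Q := fun r h => (hmk _).1 (by
    simp only [map_mul, hφx, h]
    rw [← sXR]
    simp only [pow_succ, pow_zero, one_mul])
  obtain ⟨A1, hA1, hA10, hA13, -⟩ := images_of L F hQ conjX conjY hy3 hr1y (hrrQ r1 hφr1) (hxrQ r1 hφr1)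
  -- adjust by an element of the extraspecial group commuting with `y`
  obtain ⟨d, hd, hdy, hd0, hd3⟩ : ∃ d < 128, qAut imY d = d ∧
      qMul d 1 = qMul (if A1.getD 0 0 = 1 then 65 else 1) d ∧
      qMul d 8 = qMul (if A1.getD 3 0 = 8 then 72 else 8) d := by
    rcases hA10 with e0 | e0 <;> rcases hA13 with e3 | e3 <;> rw [e0, e3]
    · exact ⟨9, by norm_num, by decide +kernel, by decide +kernel, by decide +kernel⟩
    · exact ⟨8, by norm_num, by decide +kernel, by decide +kernel, by decide +kernel⟩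
    · exact ⟨1, by norm_num, by decide +kernel, by decide +kernel, by decide +kernel⟩
    · exact ⟨0, by norm_num, by decide +kernel, by decide +kernel, by decide +kernel⟩
  set q := qEl t a b d with hq
  have hqQ : q ∈ Q := (hQ _).2 ⟨d, hd, rfl⟩
  have hφr : φ (r1 * q) = slR := by rw [map_mul, (hmk q).2 hqQ, mul_one, hφr1]
  have hqy : Commute q y := by
    have h := F.conj_el (hgt y) conjY hd
    rw [hdy, ← hq] at h
    exact (show Commute y q from mul_inv_eq_iff_eq_mul.1 h).symm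
  have hry : (r1 * q) * y * (r1 * q)⁻¹ = y * y := by
    rw [show r1 * q * y * (r1 * q)⁻¹ = r1 * (q * y * q⁻¹) * r1⁻¹ by group, hqy.eq, mul_inv_cancel_right, hr1y]
  obtain ⟨A, hA, hA0, hA3, hgood⟩ := images_of L F hQ conjX conjY hy3 hry (hrrQ _ hφr) (hxrQ _ hφr)
  have adj : ∀ i < 6, ∀ w, qMul d (2 ^ i) = qMul w d →
      qEl t a b (A.getD i 0) = r1 * qEl t a b w * r1⁻¹ := by
    intro i hi w hw
    rw [← hA i hi]
    have h : q * qEl t a b (2 ^ i) * q⁻¹ = qEl t a b w := by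
      rw [mul_inv_eq_iff_eq_mul, hq, F.el_mul, F.el_mul, hw]
    rw [← h]
    group
  have h65 : r1 * qEl t a b 65 * r1⁻¹ = qEl t a b (qMul (A1.getD 0 0) 64) := by
    rw [← F.el_mul (A1.getD 0 0) 64, ← hA1 0 (by norm_num), show (65 : ℕ) = qMul (2 ^ 0) 64 by decide +kernel,
      ← F.el_mul, F.el_top]
    calc r1 * (qEl t a b (2 ^ 0) * t) * r1⁻¹ = r1 * qEl t a b (2 ^ 0) * (t * r1⁻¹) := by group
      _ = _ := by rw [(L.cent r1⁻¹).eq]; group
  have h72 : r1 * qEl t a b 72 * r1⁻¹ = qEl t a b (qMul (A1.getD 3 0) 64) := by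
    rw [← F.el_mul (A1.getD 3 0) 64, ← hA1 3 (by norm_num), show (72 : ℕ) = qMul (2 ^ 3) 64 by decide +kernel,
      ← F.el_mul, F.el_top]
    calc r1 * (qEl t a b (2 ^ 3) * t) * r1⁻¹ = r1 * qEl t a b (2 ^ 3) * (t * r1⁻¹) := by group
      _ = _ := by rw [(L.cent r1⁻¹).eq]; group
  have hr65 : A.getD 0 0 = 65 := by
    have hlt : A.getD 0 0 < 128 := by omega
    refine F.el_inj hlt (by norm_num) ?_
    rcases hA10 with e | e
    · rw [adj 0 (by norm_num) 65 (by rw [e, if_pos rfl] at hd0; exact hd0), h65, e, show qMul 1 64 = 65 by decide +kernel]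
    · rw [adj 0 (by norm_num) (2 ^ 0) (by rw [e, if_neg (by norm_num)] at hd0; exact hd0), hA1 0 (by norm_num), e]
  have hr72 : A.getD 3 0 = 72 := by
    have hlt : A.getD 3 0 < 128 := by omega
    refine F.el_inj hlt (by norm_num) ?_
    rcases hA13 with e | e
    · rw [adj 3 (by norm_num) 72 (by rw [e, if_pos rfl] at hd3; exact hd3), h72, e, show qMul 8 64 = 72 by decide +kernel]
    · rw [adj 3 (by norm_num) (2 ^ 3) (by rw [e, if_neg (by norm_num)] at hd3; exact hd3), hA1 3 (by norm_num), e]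
  have hgA : A ∈ goodR := hgood hr65 hr72
  set r2 := r1 * q with hr2
  -- squares and cubes are central
  have hcentral : ∀ k ∈ Q, (∀ i < 6, k * qEl t a b (2 ^ i) * k⁻¹ = qEl t a b (2 ^ i)) → InT t k := by
    intro k hk h
    refine L.zQ k hk fun v hv => ?_
    obtain ⟨c, hc, rfl⟩ := (hQ v).1 hv
    have h2 := F.conj_el (hgt k) (A := [1, 2, 4, 8, 16, 32]) (fun i hi => by
      rw [h i hi]; interval_cases i <;> rfl) hc
    rw [eq_of_beq (List.all_eq_true.1 unit_check c (List.mem_range.2 hc))] at h2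
    exact mul_inv_eq_iff_eq_mul.1 h2
  have hgc := List.all_eq_true.1 good_check A hgA
  simp only [List.all_eq_true, List.mem_range, Bool.and_eq_true, beq_iff_eq] at hgc
  have hbound : ∀ i, A.getD i 0 < 128 := images_bound (by simp [hgA])
  obtain ⟨e, he⟩ := L.inT_tB (hcentral (r2 * r2) (hrrQ _ hφr) fun i hi => by
    calc r2 * r2 * qEl t a b (2 ^ i) * (r2 * r2)⁻¹ = r2 * (r2 * qEl t a b (2 ^ i) * r2⁻¹) * r2⁻¹ := by group
      _ = _ := by rw [hA i hi, F.conj_el (hgt r2) hA (hbound i), (hgc i hi).1])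
  have hAlen : A.length = 6 := by
    have h : ∀ B ∈ goodR, B.length = 6 := by decide
    exact h A hgA
  have hP : ∀ j < 6, (x * r2) * qEl t a b (2 ^ j) * (x * r2)⁻¹ = qEl t a b ((A.map (qAut imX)).getD j 0) := by
    intro j hj
    rw [show (A.map (qAut imX)).getD j 0 = qAut imX (A.getD j 0) by
      rw [List.getD_eq_getElem _ _ (by rw [List.length_map, hAlen]; exact hj), List.getElem_map,
        List.getD_eq_getElem _ _ (by rw [hAlen]; exact hj)],
      ← F.conj_el (hgt x) conjX (hbound j), ← hA j hj]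
    group
  have hPb : ∀ j < 6, (A.map (qAut imX)).getD j 0 < 128 := fun j hj => by
    rw [List.getD_eq_getElem _ _ (by rw [List.length_map, hAlen]; exact hj), List.getElem_map]
    exact qAut_lt _ _
  have hz := hcentral (x * r2 * (x * r2) * (x * r2)) (hxrQ _ hφr) fun i hi => by
    calc x * r2 * (x * r2) * (x * r2) * qEl t a b (2 ^ i) * (x * r2 * (x * r2) * (x * r2))⁻¹
        = (x * r2) * ((x * r2) * ((x * r2) * qEl t a b (2 ^ i) * (x * r2)⁻¹) * (x * r2)⁻¹) * (x * r2)⁻¹ := by group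
      _ = _ := by
        rw [hP i hi, F.conj_el (hgt (x * r2)) hP (hPb i hi), F.conj_el (hgt (x * r2)) hP (qAut_lt _ _), (hgc i hi).2]
  obtain ⟨c, hc, hcz⟩ : ∃ c, InT t c ∧ x * r2 * (x * r2) * (x * r2) * c = 1 := by
    refine ⟨_, hz, ?_⟩
    rcases hz with h | h <;> rw [h]
    exacts [one_mul 1, L.tt]
  have hcc : c * c = 1 := by
    rcases hc with rfl | rfl
    exacts [one_mul 1, L.tt]
  have hcC : ∀ g, Commute c g := fun g => (L.commute_inT hc).symm
  have hφr' : φ (r2 * c) = slR := by rw [map_mul, (hmk c).2 (L.inT_mem hc), mul_one, hφr]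
  refine ⟨A, e, x, y, r2 * c, a, b, hgA, F, hQ, conjX, conjY, fun i hi => ?_, hx7, hy3, hyx, ?_, ?_, ?_,
    ⟨hφx, hφy, hφr'⟩, ?_, ?_⟩
  · rw [← hA i hi, _root_.mul_inv_rev,
      show r2 * c * qEl t a b (2 ^ i) * (c⁻¹ * r2⁻¹) = r2 * (c * qEl t a b (2 ^ i) * c⁻¹) * r2⁻¹ by group,
      (hcC _).eq, mul_inv_cancel_right]
  · rw [show r2 * c * y * (r2 * c)⁻¹ = r2 * (c * y * c⁻¹) * r2⁻¹ by group, (hcC y).eq, mul_inv_cancel_right, hry]
  · calc r2 * c * (r2 * c) = r2 * (c * r2) * c := by group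
      _ = (r2 * r2) * (c * c) := by rw [(hcC r2).eq]; group
      _ = _ := by rw [hcc, mul_one, he]
  · rw [← hcz]
    simp only [mul_assoc, (hcC x).left_comm, (hcC r2).left_comm, hcc, mul_one]
  · rw [eq_top_iff]
    intro g _
    have hg : φ g ∈ (closure ({x, y, r2 * c} : Set H)).map φ := by
      rw [MonoidHom.map_closure]
      have himg : φ '' ({x, y, r2 * c} : Set H) = {slX, slY, slR} := by
        rw [Set.image_insert_eq, Set.image_insert_eq, Set.image_singleton, hφx, hφy, hφr']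
      rw [himg, sl_closure]
      trivial
    obtain ⟨k, hk, hkg⟩ := hg
    have hgk : g * k⁻¹ ∈ Q := (hmk _).1 (by rw [map_mul, map_inv, hkg, mul_inv_cancel])
    rw [show g = g * k⁻¹ * k by group]
    exact mul_mem (mem_sup_left hgk) (mem_sup_right hk)
  · rw [← φ.ker.card_mul_index, hker, L.cardQ, ← hker, index_ker, MonoidHom.range_eq_top.2 hsur, card_top, sl_card]

end CfsgLib.HeType
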