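import Cfsg.Agent.Lib.HeType.Coords.Frame
import Cfsg.Agent.Lib.PGroup.Extraspecial

/-!
An element of order seven that moves the extraspecial group fixes only the centre.
-/

set_option autoImplicit false
set_option linter.unusedSectionVars false

namespace CfsgLib.HeType

open Subgroup Cfsg

variable {H : Type*} [Group H] [Finite H] {t : H} {Q : Subgroup H}

namespace Loc

/-- An element fixed modulo the centre is fixed. -/
theorem commute_of_mod (L : Loc t Q) {x n c : H} (hx : x ^ 7 = 1) (hc : InT t c)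
    (h : x * n * x⁻¹ = n * c) : Commute x n := by
  rcases hc with rfl | rfl
  · rw [mul_one] at h
    exact mul_inv_eq_iff_eq_mul.1 h
  · exfalso
    have hi : ∀ i : ℕ, x ^ i * n * (x ^ i)⁻¹ = n * c ^ i := by
      intro i
      induction i with
      | zero => simp
      | succ i ih =>
        rw [pow_succ', show x * x ^ i * n * (x * x ^ i)⁻¹ = x * (x ^ i * n * (x ^ i)⁻¹) * x⁻¹ by group, ih,
          show x * (n * c ^ i) * x⁻¹ = (x * n * x⁻¹) * (x * c ^ i * x⁻¹) by group, h, ← conj_pow, L.conj_t,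
          mul_assoc, ← pow_succ']
    have h7 := hi 7
    rw [hx, one_mul, inv_one, mul_one, pow_succ c 6, show c ^ 6 = (c * c) ^ 3 by
      rw [← pow_two, ← pow_mul], L.tt, one_pow, one_mul] at h7
    exact L.t_ne (left_eq_mul.1 h7)

theorem fix_of (L : Loc t Q) (hE : IsExtraspecial 2 ↥Q) {x : H} (hx : x ^ 7 = 1)
    (hmove : ∃ u ∈ Q, ¬ Commute x u) : ∀ u ∈ Q, Commute x u → InT t u := by
  classical
  haveI : Fact (Nat.Prime 2) := ⟨Nat.prime_two⟩
  haveI : Fact (Nat.Prime 7) := ⟨by norm_num⟩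
  set F : Subgroup H := Q ⊓ centralizer ({x} : Set H) with hF
  have memF : ∀ u, u ∈ F ↔ u ∈ Q ∧ Commute x u := fun u => by
    rw [hF, mem_inf, mem_centralizer_singleton_iff]
    exact and_congr_right fun _ => ⟨fun h => h.symm, fun h => h.symm⟩
  have hfix : Nat.card {s : ↥Q // x * (s : H) = (s : H) * x} = Nat.card ↥F :=
    Nat.card_congr
      { toFun := fun s => ⟨s.1, (memF _).2 ⟨s.1.2, s.2⟩⟩
        invFun := fun s => ⟨⟨s, ((memF _).1 s.2).1⟩, ((memF _).1 s.2).2⟩
        left_inv := fun s => rfl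
        right_inv := fun s => rfl }
  have hmod := card_pgroup_fixed hx Q (L.conjQ x)
  rw [hfix, L.cardQ] at hmod
  have hdvd : Nat.card ↥F ∣ 2 ^ 7 := by
    have := Subgroup.card_dvd_of_le (inf_le_left : F ≤ Q)
    rw [L.cardQ] at this
    rwa [show (2 : ℕ) ^ 7 = 128 by norm_num]
  have htF : t ∈ F := (memF _).2 ⟨L.tQ, (L.cent x).symm⟩
  have hcen : ∀ w ∈ F, (∀ k ∈ F, Commute w k) → InT t w := by
    intro w hw hwc
    obtain ⟨hwQ, hwx⟩ := (memF _).1 hw
    refine L.zQ w hwQ fun v hv => ?_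
    have hm : ∀ i, orb x v i ∈ Q := fun i => L.conjQ _ _ hv
    have hi : ∀ i, Commute w (orb x v i) ↔ Commute w v := fun i => by
      conv_lhs => rw [show w = x ^ i * w * (x ^ i)⁻¹ by
        rw [(hwx.pow_left i).eq, mul_inv_cancel_right]]
      exact L.commute_conj (x ^ i)
    set n := orb x v 0 * orb x v 1 * orb x v 2 * orb x v 3 * orb x v 4 * orb x v 5 * orb x v 6 with hn
    have m2 := mul_mem (hm 0) (hm 1)
    have m3 := mul_mem m2 (hm 2)
    have m4 := mul_mem m3 (hm 3)
    have m5 := mul_mem m4 (hm 4)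
    have m6 := mul_mem m5 (hm 5)
    have hnQ : n ∈ Q := mul_mem m6 (hm 6)
    have hiff : Commute w n ↔ Commute w v := by
      rw [hn, L.commute_mul_iff hwQ m6 (hm 6), L.commute_mul_iff hwQ m5 (hm 5), L.commute_mul_iff hwQ m4 (hm 4),
        L.commute_mul_iff hwQ m3 (hm 3), L.commute_mul_iff hwQ m2 (hm 2), L.commute_mul_iff hwQ (hm 0) (hm 1),
        hi 0, hi 1, hi 2, hi 3, hi 4, hi 5, hi 6]
      tauto
    refine hiff.1 (hwc n ((memF _).2 ⟨hnQ, ?_⟩))
    have e : x * n * x⁻¹ = v⁻¹ * n * v := by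
      have h7 : x * orb x v 6 * x⁻¹ = v := by
        rw [show x * orb x v 6 * x⁻¹ = x ^ 7 * v * (x ^ 7)⁻¹ by (simp only [orb, pow_succ']; group), hx]
        group
      have hs : ∀ i, x * orb x v i * x⁻¹ = orb x v (i + 1) := fun i => by
        simp only [orb, pow_succ']; group
      calc x * n * x⁻¹ = (x * orb x v 0 * x⁻¹) * (x * orb x v 1 * x⁻¹) * (x * orb x v 2 * x⁻¹) *
            (x * orb x v 3 * x⁻¹) * (x * orb x v 4 * x⁻¹) * (x * orb x v 5 * x⁻¹) * (x * orb x v 6 * x⁻¹) := by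
                rw [hn]; group
        _ = orb x v 1 * orb x v 2 * orb x v 3 * orb x v 4 * orb x v 5 * orb x v 6 * v := by
          rw [hs, hs, hs, hs, hs, hs, h7]
        _ = _ := by
          rw [hn, show orb x v 0 = v by simp [orb]]; group
    refine L.commute_of_mod hx (L.comm n⁻¹ (inv_mem hnQ) v⁻¹ (inv_mem hv)) ?_
    rw [e]
    group
  obtain ⟨k, hk7, hk⟩ := (Nat.dvd_prime_pow Nat.prime_two).1 hdvd
  have h128 : Nat.card ↥F ≠ 128 := by
    intro h
    have hFQ : F = Q := Subgroup.eq_of_le_of_card_ge inf_le_left (by rw [h, L.cardQ])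
    obtain ⟨u, hu, hun⟩ := hmove
    exact hun ((memF u).1 (hFQ.symm ▸ hu)).2
  have h16 : Nat.card ↥F ≠ 16 := by
    intro h
    have hp : IsPGroup 2 ↥Q := IsPGroup.of_card (n := 7) (by rw [L.cardQ]; norm_num)
    have hcen2 : ∀ z : ↥Q, z ∈ center ↥Q → InT t (z : H) := fun z hz =>
      L.zQ z z.2 fun v hv => (congrArg Subtype.val (mem_center_iff.1 hz ⟨v, hv⟩)).symm
    obtain ⟨n, hn⟩ := CfsgLib.PGroup.exists_card_eq_of_center_inf hp (le_refl (center ↥Q)) hE.2
      (CfsgLib.PGroup.special_comm_mem_center hE.1) (F.subgroupOf Q)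
      (fun z hz => by
        rw [mem_subgroupOf]
        rcases hcen2 z hz with e | e <;> rw [e]
        exacts [one_mem F, htF])
      (le_antisymm (fun w hw => by
        refine mem_center_iff.2 fun v => Subtype.ext ?_
        have hI := hcen (w : H) (mem_subgroupOf.1 hw.1) fun z hz =>
          (congrArg Subtype.val (mem_centralizer_iff.1 hw.2 ⟨z, ((memF z).1 hz).1⟩ (mem_subgroupOf.2 hz))).symm
        rcases hI with e | e <;> simp only [Subgroup.coe_mul, e]
        · rw [one_mul, mul_one]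
        · exact (L.cent (v : H)).eq.symm)
        (fun z hz => ⟨by
          show (z : H) ∈ F
          rcases hcen2 z hz with e | e <;> rw [e]
          exacts [one_mem F, htF], mem_centralizer_iff.2 fun b _ => mem_center_iff.1 hz b⟩))
    rw [Nat.card_congr (Subgroup.subgroupOfEquivOfLe (inf_le_left : F ≤ Q)).toEquiv, h] at hn
    have h24 : 2 ^ 4 = 2 ^ (2 * n + 1) := by rw [← hn]; norm_num
    have := Nat.pow_right_injective (le_refl 2) h24
    omega
  have h2 : Nat.card ↥F = 2 := by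
    rw [hk] at hmod h128 h16 ⊢
    unfold Nat.ModEq at hmod
    interval_cases k <;> simp_all
  intro u hu hc
  obtain ⟨p, q, -, huniv⟩ := Nat.card_eq_two_iff.1 h2
  have h := Set.eq_univ_iff_forall.1 huniv
  have a1 := h ⟨1, one_mem F⟩
  have a2 := h ⟨t, htF⟩
  have a3 := h ⟨u, (memF u).2 ⟨hu, hc⟩⟩
  simp only [Set.mem_insert_iff, Set.mem_singleton_iff, Subtype.ext_iff] at a1 a2 a3
  unfold InT
  have := L.t_ne
  grind

end Loc

end CfsgLib.HeType
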