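import Mathlib

/-!
An element of order seven without fixed points on an elementary abelian group: the two polynomial halves.
-/

set_option autoImplicit false

namespace CfsgLib.HeType

variable {V : Type*} [CommGroup V] {θ : V →* V}

/-- The first cubic. -/
def polA (θ : V →* V) (v : V) : V := v * θ v * θ (θ (θ v))

/-- The second cubic. -/
def polB (θ : V →* V) (v : V) : V := v * θ (θ v) * θ (θ (θ v))

/-- The idempotent. -/
def polE (θ : V →* V) (v : V) : V := θ v * θ (θ v) * θ (θ (θ (θ v)))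

variable (hV : ∀ v : V, v * v = 1) (h7 : ∀ v : V, θ (θ (θ (θ (θ (θ (θ v)))))) = v)
  (hfix : ∀ v : V, θ v = v → v = 1)

include hV h7 in
theorem polA_E (v : V) : polA θ (polE θ v) = polA θ v := by
  simp only [polA, polE, map_mul, h7]
  calc _ = (θ (θ v) * θ (θ v)) * (θ (θ (θ (θ v))) * θ (θ (θ (θ v)))) *
        (θ (θ (θ (θ (θ v)))) * θ (θ (θ (θ (θ v))))) * (v * θ v * θ (θ (θ v))) := by ac_rfl
    _ = _ := by simp [hV]

include hV h7 hfix in
theorem sum_orbit (v : V) :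
    v * θ v * θ (θ v) * θ (θ (θ v)) * θ (θ (θ (θ v))) * θ (θ (θ (θ (θ v)))) * θ (θ (θ (θ (θ (θ v))))) = 1 := by
  refine hfix _ ?_
  simp only [map_mul, h7]
  ac_rfl

include hV h7 hfix in
theorem polB_E (v : V) : polB θ (polE θ v) = 1 := by
  have h := sum_orbit hV h7 hfix v
  simp only [polB, polE, map_mul, h7]
  calc _ = (θ (θ (θ (θ v))) * θ (θ (θ (θ v)))) *
        (v * θ v * θ (θ v) * θ (θ (θ v)) * θ (θ (θ (θ v))) * θ (θ (θ (θ (θ v)))) * θ (θ (θ (θ (θ (θ v)))))) := by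
          ac_rfl
    _ = _ := by rw [h, hV, one_mul]

include hV h7 hfix in
theorem polA_compl (v : V) : polA θ (v * polE θ v) = 1 := by
  have h : polA θ (v * polE θ v) = polA θ v * polA θ (polE θ v) := by
    simp only [polA, map_mul]; ac_rfl
  rw [h, polA_E hV h7, hV]

include hV h7 hfix in
theorem halves_meet {v : V} (hA : polA θ v = 1) (hB : polB θ v = 1) : v = 1 := by
  simp only [polA] at hA
  simp only [polB] at hB
  have e : θ v = θ (θ v) := by
    have h := hA.trans hB.symm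
    have h2 : v * θ v = v * θ (θ v) := mul_right_cancel h
    exact mul_left_cancel h2
  refine hfix v ?_
  have := congrArg (fun w => θ (θ (θ (θ (θ (θ w)))))) e
  simp only [h7] at this
  exact this.symm

include hV h7 in
theorem half_inverse {v : V} (hA : polA θ v = 1) :
    θ (θ (θ v)) * θ (θ (θ (θ (θ v)))) * θ (θ (θ (θ (θ (θ v))))) = v := by
  simp only [polA] at hA
  have e1 := congrArg θ hA
  have e2 := congrArg θ e1
  have e3 := congrArg θ e2
  simp only [map_mul, map_one] at e1 e2 e3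
  have : v * (θ (θ (θ v)) * θ (θ (θ (θ (θ v)))) * θ (θ (θ (θ (θ (θ v)))))) =
      (v * θ v * θ (θ (θ v))) * (θ v * θ (θ v) * θ (θ (θ (θ v)))) *
      (θ (θ v) * θ (θ (θ v)) * θ (θ (θ (θ (θ v))))) * (θ (θ (θ v)) * θ (θ (θ (θ v))) * θ (θ (θ (θ (θ (θ v)))))) := by
    symm
    calc _ = (θ v * θ v) * (θ (θ v) * θ (θ v)) * (θ (θ (θ v)) * θ (θ (θ v))) * (θ (θ (θ (θ v))) * θ (θ (θ (θ v)))) *
          (v * (θ (θ (θ v)) * θ (θ (θ (θ (θ v)))) * θ (θ (θ (θ (θ (θ v))))))) := by ac_rfl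
      _ = _ := by simp [hV]
  rw [hA, e1, e2, e3, one_mul, one_mul, one_mul] at this
  have h2 : v⁻¹ = v := inv_eq_of_mul_eq_one_left (hV v)
  rw [mul_eq_one_iff_inv_eq, h2] at this
  exact this.symm

end CfsgLib.HeType

namespace CfsgLib.HeType

variable {V : Type*} [CommGroup V] {θ : V →* V} (hV : ∀ v : V, v * v = 1)
  (h7 : ∀ v : V, θ (θ (θ (θ (θ (θ (θ v)))))) = v) (hfix : ∀ v : V, θ v = v → v = 1)

include hV h7 hfix in
theorem polB_polA (v : V) : polB θ (polA θ v) = 1 := by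
  have h := sum_orbit hV h7 hfix v
  simp only [polA, polB, map_mul]
  calc _ = (θ (θ (θ v)) * θ (θ (θ v))) *
      (v * θ v * θ (θ v) * θ (θ (θ v)) * θ (θ (θ (θ v))) * θ (θ (θ (θ (θ v)))) * θ (θ (θ (θ (θ (θ v)))))) := by
        ac_rfl
    _ = _ := by rw [h, hV, one_mul]

include hV h7 hfix in
theorem polA_of_sq {v : V} (h : v * θ (θ v) * θ (θ (θ (θ (θ (θ v))))) = 1) : polA θ v = 1 := by
  refine halves_meet hV h7 hfix ?_ (polB_polA hV h7 hfix v)
  simp only [polA, map_mul]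
  calc _ = (θ v * θ v) * (θ (θ (θ v)) * θ (θ (θ v))) * (θ (θ (θ (θ v))) * θ (θ (θ (θ v)))) *
      (v * θ (θ v) * θ (θ (θ (θ (θ (θ v)))))) := by ac_rfl
    _ = _ := by rw [h]; simp [hV]

end CfsgLib.HeType
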