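import Mathlib

/-!
Lifting normalisers of cyclic subgroups of prime order through a surjection with kernel of coprime order.
-/

set_option autoImplicit false

namespace CfsgLib.HeType

open Subgroup

theorem card_pgroup_fixed {H : Type*} [Group H] [Finite H] {p : ℕ} [Fact p.Prime] {g : H} (hg : g ^ p = 1)
    (S : Subgroup H) (hS : ∀ s ∈ S, g * s * g⁻¹ ∈ S) :
    Nat.card ↥S ≡ Nat.card {s : ↥S // g * (s : H) = (s : H) * g} [MOD p] := by
  classical
  let σ : Equiv.Perm ↥S := Equiv.ofBijective (fun s : ↥S => (⟨g * (s : H) * g⁻¹, hS _ s.2⟩ : ↥S))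
    (Finite.injective_iff_bijective.1 fun s u h => Subtype.ext (by simpa using congrArg Subtype.val h))
  have hpw : ∀ (i : ℕ) (s : ↥S), (((σ ^ i) s : ↥S) : H) = g ^ i * (s : H) * (g ^ i)⁻¹ := by
    intro i
    induction i with
    | zero => intro s; simp
    | succ i ih =>
      intro s
      rw [pow_succ', Equiv.Perm.mul_apply]
      show g * ((σ ^ i) s : H) * g⁻¹ = _
      rw [ih, pow_succ']
      group
  have hσ : σ ^ p ^ 1 = 1 := by
    ext s
    rw [pow_one, hpw, hg, one_mul, inv_one, mul_one]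
    rfl
  letI : Fintype ↥S := Fintype.ofFinite _
  have h := Equiv.Perm.card_compl_support_modEq hσ
  rw [Nat.card_eq_fintype_card, Nat.card_eq_fintype_card]
  refine h.symm.trans (congrArg (· % p) ?_)
  rw [Fintype.card_subtype]
  refine congrArg Finset.card ?_
  ext s
  simp only [Finset.mem_compl, Equiv.Perm.mem_support, not_not, Finset.mem_filter, Finset.mem_univ, true_and,
    Subtype.ext_iff]
  exact mul_inv_eq_iff_eq_mul

variable {H L : Type*} [Group H] [Finite H] [Group L]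

/-- A lift of an element of prime order. -/
theorem exists_lift_order (φ : H →* L) {X : L} {p m : ℕ} (hX : X ^ p = 1) {h0 : H} (hh : φ h0 = X)
    (hker : ∀ k : H, φ k = 1 → k ^ m = 1) (hm : X ^ m = X) : ∃ x : H, φ x = X ∧ x ^ p = 1 := by
  refine ⟨h0 ^ m, by rw [map_pow, hh, hm], ?_⟩
  rw [← pow_mul, mul_comm, pow_mul]
  exact hker _ (by rw [map_pow, hh, hX])

/-- A lift normalising a cyclic subgroup of prime order. -/
theorem exists_lift_normal (φ : H →* L) (hsur : Function.Surjective φ) {p k : ℕ} [hp : Fact p.Prime]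
    (hker : (Nat.card ↥φ.ker).Coprime p) {x : H} (hx : x ^ p = 1) (hx1 : φ x ≠ 1) {Y : L}
    (hY : Y * φ x * Y⁻¹ = φ x ^ k) : ∃ y : H, φ y = Y ∧ y * x * y⁻¹ = x ^ k := by
  obtain ⟨y0, hy0⟩ := hsur Y
  set P : Subgroup H := (zpowers (φ x)).comap φ with hP
  set x' := y0 * x * y0⁻¹ with hx'
  have hxP : x ∈ P := mem_zpowers (φ x)
  have hx'P : x' ∈ P := by
    show φ x' ∈ zpowers (φ x)
    rw [hx', map_mul, map_mul, map_inv, hy0, hY]
    exact pow_mem (mem_zpowers _) k
  have ordφ : orderOf (φ x) = p := orderOf_eq_prime (by rw [← map_pow, hx, map_one]) hx1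
  have hxne : x ≠ 1 := fun e => hx1 (by rw [e, map_one])
  have ordx : orderOf x = p := orderOf_eq_prime hx hxne
  have ordx' : orderOf x' = p := by rw [hx', ← MulAut.conj_apply, MulEquiv.orderOf_eq, ordx]
  let g : ↥P →* L := φ.comp P.subtype
  have hrange : g.range = zpowers (φ x) := by
    rw [show g.range = P.map φ by rw [MonoidHom.range_comp, range_subtype], hP,
      map_comap_eq_self_of_surjective hsur]
  have hkg : Nat.card ↥g.ker = Nat.card ↥φ.ker := by
    refine Nat.card_congr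
      { toFun := fun s => ⟨((s : ↥P) : H), s.2⟩
        invFun := fun s => ⟨⟨(s : H), show φ s ∈ zpowers (φ x) by rw [s.2]; exact one_mem _⟩, s.2⟩
        left_inv := fun s => rfl
        right_inv := fun s => rfl }
  have hcard : Nat.card ↥P = Nat.card ↥φ.ker * p := by
    rw [← g.ker.card_mul_index, index_ker, hkg, hrange, Nat.card_zpowers, ordφ]
  set xm : ↥P := ⟨x, hxP⟩
  set xm' : ↥P := ⟨x', hx'P⟩
  have c1 : Nat.card ↥(zpowers xm) = p := by rw [Nat.card_zpowers, ← Subgroup.orderOf_coe]; exact ordx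
  have c2 : Nat.card ↥(zpowers xm') = p := by rw [Nat.card_zpowers, ← Subgroup.orderOf_coe]; exact ordx'
  have hfac : p ^ (Nat.card ↥P).factorization p = p := by
    have hk0 : Nat.card ↥φ.ker ≠ 0 := Nat.card_pos.ne'
    rw [hcard, Nat.factorization_mul hk0 hp.out.ne_zero, Finsupp.add_apply, hp.out.factorization_self,
      Nat.factorization_eq_zero_of_not_dvd ((Nat.Prime.coprime_iff_not_dvd hp.out).1 hker.symm), zero_add, pow_one]
  let S1 : Sylow p ↥P := Sylow.ofCard (zpowers xm) (by rw [c1, hfac])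
  let S2 : Sylow p ↥P := Sylow.ofCard (zpowers xm') (by rw [c2, hfac])
  obtain ⟨w, hw⟩ := MulAction.exists_smul_eq ↥P S2 S1
  have hmem : w * xm' * w⁻¹ ∈ zpowers xm := by
    have h2 : MulAut.conj w xm' ∈ ((w • S2 : Sylow p ↥P) : Subgroup ↥P) := by
      rw [Sylow.coe_subgroup_smul]
      exact Subgroup.smul_mem_pointwise_smul _ _ _ (show xm' ∈ (S2 : Subgroup ↥P) from mem_zpowers xm')
    rw [hw] at h2
    exact h2
  obtain ⟨i, hi⟩ := (isOfFinOrder_of_finite xm).mem_powers_iff_mem_zpowers.2 hmem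
  have hi' : (w : H) * x' * (w : H)⁻¹ = x ^ i := (congrArg Subtype.val hi).symm
  obtain ⟨j, hj⟩ : ∃ j : ℕ, φ (w : H) = φ x ^ j := by
    obtain ⟨j, hj⟩ := (MonoidHom.isOfFinOrder φ (isOfFinOrder_of_finite x)).mem_powers_iff_mem_zpowers.2 (show φ (w : H) ∈ _ from w.2)
    exact ⟨j, hj.symm⟩
  have hφw : (φ x) ^ i = φ x ^ k := by
    rw [← map_pow, ← hi', hx', map_mul, map_mul, map_mul, map_mul, map_inv, map_inv, hy0, hY, hj]
    exact mul_inv_eq_iff_eq_mul.2 (by rw [← pow_add, ← pow_add, add_comm])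
  have hik : x ^ i = x ^ k := by
    rw [pow_eq_pow_iff_modEq, ordx]
    rw [pow_eq_pow_iff_modEq, ordφ] at hφw
    exact hφw
  refine ⟨(x ^ j)⁻¹ * ((w : H) * y0), ?_, ?_⟩
  · rw [map_mul, map_inv, map_mul, map_pow, hj, hy0, inv_mul_cancel_left]
  · rw [show (x ^ j)⁻¹ * ((w : H) * y0) * x * ((x ^ j)⁻¹ * ((w : H) * y0))⁻¹ =
      (x ^ j)⁻¹ * ((w : H) * x' * (w : H)⁻¹) * x ^ j by rw [hx']; group, hi', hik]
    have hc : Commute (x ^ k) (x ^ j) := (Commute.refl x).pow_pow k j
    rw [mul_assoc, hc.eq, inv_mul_cancel_left]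

/-- Iterated conjugation. -/
theorem conj_iter {x y : H} {k : ℕ} (h : y * x * y⁻¹ = x ^ k) : ∀ m : ℕ, y ^ m * x * (y ^ m)⁻¹ = x ^ (k ^ m)
  | 0 => by simp
  | m + 1 => by
    rw [pow_succ', show y * y ^ m * x * (y * y ^ m)⁻¹ = y * (y ^ m * x * (y ^ m)⁻¹) * y⁻¹ by group,
      conj_iter h m, ← conj_pow, h, ← pow_mul, ← pow_succ']

end CfsgLib.HeType
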