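import Cfsg.Agent.Lib.HeType.Coords.Elems
import Cfsg.Agent.Lib.HeType.Coords.Halves
import Cfsg.Agent.Lib.HeType.Coords.Lift

/-!
The frame of the extraspecial group from an element of order seven and one of order three.
-/

set_option autoImplicit false
set_option linter.unusedSectionVars false

namespace CfsgLib.HeType

open Subgroup

variable {H : Type*} [Group H] [Finite H]

/-- One or the involution. -/
def InT (t u : H) : Prop := u = 1 ∨ u = t

/-- The local setting. -/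
structure Loc (t : H) (Q : Subgroup H) : Prop where
  tt : t * t = 1
  t_ne : t ≠ 1
  cent : ∀ h : H, Commute t h
  tQ : t ∈ Q
  conjQ : ∀ g : H, ∀ u ∈ Q, g * u * g⁻¹ ∈ Q
  cardQ : Nat.card ↥Q = 128
  comm : ∀ u ∈ Q, ∀ v ∈ Q, InT t (u * v * u⁻¹ * v⁻¹)
  sq : ∀ u ∈ Q, InT t (u * u)
  zQ : ∀ u ∈ Q, (∀ v ∈ Q, Commute u v) → InT t u

/-- The setting with the elements of order seven and three. -/
structure Loc7 (t : H) (Q : Subgroup H) (x y : H) : Prop extends Loc t Q where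
  x7 : x ^ 7 = 1
  fix : ∀ u ∈ Q, Commute x u → InT t u
  y3 : y ^ 3 = 1
  yx : y * x * y⁻¹ = x * x

/-- The orbit under `x`. -/
def orb (x u : H) (i : ℕ) : H := x ^ i * u * (x ^ i)⁻¹

namespace Loc

variable {t : H} {Q : Subgroup H} (L : Loc t Q)

include L

theorem inT_mem {u : H} (h : InT t u) : u ∈ Q := by
  rcases h with rfl | rfl
  exacts [one_mem _, L.tQ]

theorem inT_tB {u : H} (h : InT t u) : ∃ e, u = tB t e := by
  rcases h with rfl | rfl
  exacts [⟨false, rfl⟩, ⟨true, rfl⟩]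

theorem inT_mul {u v : H} (hu : InT t u) (hv : InT t v) : InT t (u * v) := by
  rcases hu with rfl | rfl <;> rcases hv with rfl | rfl <;> simp [InT, L.tt]

theorem conj_t (g : H) : g * t * g⁻¹ = t := by
  rw [← (L.cent g).eq, mul_inv_cancel_right]

theorem inT_conj {u : H} (g : H) (hu : InT t u) : g * u * g⁻¹ = u := by
  rcases hu with rfl | rfl
  · group
  · exact L.conj_t g

/-- Commutation as a bit is additive. -/
theorem commute_mul_iff {u v w : H} (hu : u ∈ Q) (hv : v ∈ Q) (hw : w ∈ Q) :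
    (Commute u (v * w)) ↔ (Commute u v ↔ Commute u w) := by
  have key : ∀ z ∈ Q, (Commute u z ∧ u * z * u⁻¹ * z⁻¹ = 1) ∨ (¬ Commute u z ∧ u * z * u⁻¹ * z⁻¹ = t) := by
    intro z hz
    rcases L.comm u hu z hz with h | h
    · exact .inl ⟨by rwa [mul_inv_eq_one, mul_inv_eq_iff_eq_mul] at h, h⟩
    · refine .inr ⟨fun hc => L.t_ne ?_, h⟩
      rw [← h, hc.eq]; group
  have e : u * (v * w) * u⁻¹ * (v * w)⁻¹ = (u * v * u⁻¹ * v⁻¹) * (u * w * u⁻¹ * w⁻¹) := by
    have hi := L.inT_conj v (L.comm u hu w hw)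
    calc u * (v * w) * u⁻¹ * (v * w)⁻¹ = (u * v * u⁻¹ * v⁻¹) * (v * (u * w * u⁻¹ * w⁻¹) * v⁻¹) := by group
      _ = _ := by rw [hi]
  rcases key v hv with ⟨c1, e1⟩ | ⟨c1, e1⟩ <;> rcases key w hw with ⟨c2, e2⟩ | ⟨c2, e2⟩ <;>
    rcases key (v * w) (mul_mem hv hw) with ⟨c3, e3⟩ | ⟨c3, e3⟩ <;>
    rw [e1, e2, e3] at e <;> simp [L.tt, L.t_ne, Ne.symm L.t_ne] at e <;> simp [c1, c2, c3]

theorem commute_conj {u v : H} (g : H) : Commute (g * u * g⁻¹) (g * v * g⁻¹) ↔ Commute u v := by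
  constructor
  · intro h
    have := congrArg (fun z => g⁻¹ * z * g) h.eq
    simp [mul_assoc] at this
    exact this
  · intro h
    show g * u * g⁻¹ * (g * v * g⁻¹) = g * v * g⁻¹ * (g * u * g⁻¹)
    rw [show g * u * g⁻¹ * (g * v * g⁻¹) = g * (u * v) * g⁻¹ by group, h.eq]; group

theorem commute_inT {u v : H} (hv : InT t v) : Commute u v := by
  rcases hv with rfl | rfl
  exacts [Commute.one_right u, (L.cent u).symm]

end Loc

namespace Loc7

variable {t : H} {Q : Subgroup H} {x y : H} (L : Loc7 t Q x y)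

include L

theorem orb_mem {u : H} (hu : u ∈ Q) (i : ℕ) : orb x u i ∈ Q := L.conjQ _ _ hu

theorem x_pow_mod (i : ℕ) : x ^ i = x ^ (i % 7) := pow_eq_pow_mod i L.x7

theorem orb_mod (u : H) (i : ℕ) : orb x u i = orb x u (i % 7) := by rw [orb, L.x_pow_mod i, orb]

theorem y_pow (i : ℕ) : y * x ^ i = x ^ (2 * i) * y := by
  rw [← mul_inv_eq_iff_eq_mul, ← conj_pow, L.yx, ← pow_two, ← pow_mul]

theorem orb_y (u : H) (i : ℕ) (hu : Commute y u) : y * orb x u i * y⁻¹ = orb x u (2 * i) := by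
  unfold orb
  calc y * (x ^ i * u * (x ^ i)⁻¹) * y⁻¹ = (y * x ^ i) * u * (y * x ^ i)⁻¹ := by group
    _ = x ^ (2 * i) * (y * u * y⁻¹) * (x ^ (2 * i))⁻¹ := by rw [L.y_pow]; group
    _ = _ := by rw [hu.eq]; group

/-- The set of a half. -/
def half (t : H) (Q : Subgroup H) (x : H) (p q : ℕ) : Set H :=
  {u | u ∈ Q ∧ InT t (u * orb x u p * orb x u q)}

theorem quotient_facts : ∀ (p q : ℕ),
    (∀ u ∈ half t Q x p q, ∀ v ∈ half t Q x p q, u * v ∈ half t Q x p q) ∧
    (∀ u ∈ half t Q x p q, x * u * x⁻¹ ∈ half t Q x p q) := by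
  intro p q
  have key : ∀ u ∈ Q, ∀ v ∈ Q, ∃ c, InT t c ∧ (u * v) * orb x (u * v) p * orb x (u * v) q =
      (u * orb x u p * orb x u q) * (v * orb x v p * orb x v q) * c := by
    intro u hu v hv
    have swap : ∀ a ∈ Q, ∀ b ∈ Q, ∃ c, InT t c ∧ a * b = b * a * c := fun a ha b hb => by
      have h := L.comm a⁻¹ (inv_mem ha) b⁻¹ (inv_mem hb)
      exact ⟨_, h, by group⟩
    set u1 := orb x u p
    set u2 := orb x u q
    set v1 := orb x v p
    set v2 := orb x v q
    have e1 : orb x (u * v) p = u1 * v1 := by simp only [u1, v1, orb]; group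
    have e2 : orb x (u * v) q = u2 * v2 := by simp only [u2, v2, orb]; group
    obtain ⟨c1, hc1, s1⟩ := swap v hv u1 (L.orb_mem hu p)
    obtain ⟨c2, hc2, s2⟩ := swap (v * v1) (mul_mem hv (L.orb_mem hv p)) u2 (L.orb_mem hu q)
    have k1 : ∀ z, Commute c1 z := fun z => (L.commute_inT hc1).symm
    have k2 : ∀ z, Commute c2 z := fun z => (L.commute_inT hc2).symm
    refine ⟨c2 * c1, L.inT_mul hc2 hc1, ?_⟩
    rw [e1, e2]
    calc u * v * (u1 * v1) * (u2 * v2) = u * (v * u1) * v1 * u2 * v2 := by group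
      _ = u * u1 * v * (c1 * v1) * u2 * v2 := by rw [s1]; group
      _ = u * u1 * (v * v1) * (c1 * (u2 * v2)) := by rw [(k1 v1).eq]; group
      _ = u * u1 * ((v * v1) * u2) * v2 * c1 := by rw [(k1 _).eq]; group
      _ = u * u1 * u2 * (v * v1) * (c2 * v2) * c1 := by rw [s2]; group
      _ = u * u1 * u2 * (v * v1 * v2) * (c2 * c1) := by rw [(k2 v2).eq]; group
  refine ⟨fun u hu v hv => ⟨mul_mem hu.1 hv.1, ?_⟩, fun u hu => ⟨L.conjQ _ _ hu.1, ?_⟩⟩
  · obtain ⟨c, hc, e⟩ := key u hu.1 v hv.1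
    rw [e]
    exact L.inT_mul (L.inT_mul hu.2 hv.2) hc
  · have e : x * u * x⁻¹ * orb x (x * u * x⁻¹) p * orb x (x * u * x⁻¹) q =
        x * (u * orb x u p * orb x u q) * x⁻¹ := by
      have hp : ∀ i, orb x (x * u * x⁻¹) i = x * orb x u i * x⁻¹ := fun i => by
        simp only [orb]
        rw [show x ^ i * (x * u * x⁻¹) * (x ^ i)⁻¹ = (x ^ i * x) * u * (x ^ i * x)⁻¹ by group, ← pow_succ, pow_succ']
        group
      rw [hp, hp]; group
    rw [e, L.inT_conj x hu.2]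
    exact hu.2

/-- A half as a subgroup. -/
theorem half_subgroup (p q : ℕ) : ∃ S : Subgroup H, (S : Set H) = half t Q x p q ∧ S ≤ Q := by
  have h1 : (1 : H) ∈ half t Q x p q := ⟨one_mem _, .inl (by simp [orb])⟩
  have hinv : ∀ u ∈ half t Q x p q, u⁻¹ ∈ half t Q x p q := by
    intro u hu
    have ht : t ∈ half t Q x p q := ⟨L.tQ, by
      simp only [orb, L.conj_t]
      exact .inr (by rw [L.tt, one_mul])⟩
    rcases L.sq u hu.1 with h | h
    · rwa [inv_eq_of_mul_eq_one_right h]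
    · have e : u⁻¹ = u * t := by
        refine inv_eq_of_mul_eq_one_right ?_
        rw [← mul_assoc, h, L.tt]
      rw [e]
      exact (L.quotient_facts p q).1 u hu t ht
  exact ⟨{ carrier := half t Q x p q, mul_mem' := fun {u v} hu hv => (L.quotient_facts p q).1 u hu v hv,
           one_mem' := h1, inv_mem' := fun {u} hu => hinv u hu }, rfl, fun u hu => hu.1⟩

end Loc7

end CfsgLib.HeType
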