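import Cfsg.Agent.Lib.HeType.Coords.Frame

/-!
The frame from the two halves.
-/

set_option autoImplicit false
set_option linter.unusedSectionVars false

namespace CfsgLib.HeType

open Subgroup

variable {H : Type*} [Group H] [Finite H] {t : H} {Q : Subgroup H} {x y : H}

theorem inT_iff_mk (L : Loc t Q) [(zpowers t).Normal] (u : H) : InT t u ↔ QuotientGroup.mk' (zpowers t) u = 1 := by
  rw [QuotientGroup.mk'_apply, QuotientGroup.eq_one_iff]
  constructor
  · rintro (rfl | rfl)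
    exacts [one_mem _, mem_zpowers _]
  · intro h
    obtain ⟨i, hi⟩ := (isOfFinOrder_of_finite t).mem_powers_iff_mem_zpowers.2 h
    rw [← hi]
    have h2 : t ^ 2 = 1 := by rw [pow_two, L.tt]
    show InT t (t ^ i)
    rw [pow_eq_pow_mod i h2]
    rcases Nat.mod_two_eq_zero_or_one i with e | e <;> rw [e]
    · exact .inl (pow_zero t)
    · exact .inr (pow_one t)

namespace Loc7

theorem inv (L : Loc7 t Q x y) : Loc7 t Q x⁻¹ y where
  toLoc := L.toLoc
  x7 := by rw [inv_pow, L.x7, inv_one]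
  fix := fun u hu h => L.fix u hu (Commute.inv_left_iff.1 h)
  y3 := L.y3
  yx := by rw [← conj_inv, L.yx, mul_inv_rev]

theorem orb_succ (u : H) (i : ℕ) : orb x u (i + 1) = x * orb x u i * x⁻¹ := by
  simp only [orb, pow_succ']; group

theorem orb_orb (u : H) (i j : ℕ) : orb x (orb x u i) j = orb x u (j + i) := by
  simp only [orb, pow_add]; group

theorem mod_facts (L : Loc7 t Q x y) :
    (∀ u ∈ Q, ∃ ua ∈ half t Q x 1 3, ∃ ub ∈ half t Q x 2 3, u = ua * ub) ∧
    (∀ u, u ∈ half t Q x 1 3 → u ∈ half t Q x 2 3 → InT t u) ∧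
    (∀ u ∈ half t Q x 1 3, InT t (u * (orb x u 3 * orb x u 5 * orb x u 6)⁻¹)) ∧
    (∀ u ∈ half t Q x 1 3, y * u * y⁻¹ ∈ half t Q x 1 3) ∧
    (∀ u ∈ half t Q x 2 3, u ∈ half t Q x⁻¹ 1 3) ∧ (∀ u ∈ half t Q x⁻¹ 1 3, u ∈ half t Q x 2 3) := by
  classical
  have hN : (zpowers t).Normal := ⟨fun n hn g => by
    obtain ⟨i, rfl⟩ := hn
    rw [← conj_zpow, L.conj_t]
    exact zpow_mem (mem_zpowers t) i⟩
  set π := QuotientGroup.mk' (zpowers t) with hπ
  have hI := inT_iff_mk L.toLoc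
  set W := Q.map π with hW
  have hcomm : ∀ a b : ↥W, a * b = b * a := by
    rintro ⟨_, a, ha, rfl⟩ ⟨_, b, hb, rfl⟩
    refine Subtype.ext ?_
    show π a * π b = π b * π a
    have h := (hI _).1 (L.comm a ha b hb)
    rw [map_mul, map_mul, map_mul, map_inv, map_inv, mul_inv_eq_one, mul_inv_eq_iff_eq_mul] at h
    exact h
  letI : CommGroup ↥W := { (inferInstance : Group ↥W) with mul_comm := hcomm }
  have hconj : ∀ w ∈ W, π x * w * (π x)⁻¹ ∈ W := by
    rintro _ ⟨u, hu, rfl⟩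
    exact ⟨x * u * x⁻¹, L.conjQ x u hu, by simp⟩
  let θ : ↥W →* ↥W :=
    { toFun := fun w => ⟨π x * w.1 * (π x)⁻¹, hconj _ w.2⟩
      map_one' := Subtype.ext (by simp)
      map_mul' := fun a b => Subtype.ext (by simp [mul_assoc]) }
  let q : ∀ u : H, u ∈ Q → ↥W := fun u hu => ⟨π u, u, hu, rfl⟩
  have hθ : ∀ (u : H) (hu : u ∈ Q), θ (q u hu) = q (orb x u 1) (L.orb_mem hu 1) := fun u hu =>
    Subtype.ext (by simp [θ, q, orb])
  have hq1 : ∀ (u : H) (hu : u ∈ Q), q u hu = 1 ↔ InT t u := fun u hu => by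
    rw [hI, Subtype.ext_iff]; rfl
  have hV : ∀ w : ↥W, w * w = 1 := by
    rintro ⟨_, u, hu, rfl⟩
    exact Subtype.ext (show π u * π u = 1 by rw [← map_mul]; exact (hI _).1 (L.sq u hu))
  have h7 : ∀ w : ↥W, θ (θ (θ (θ (θ (θ (θ w)))))) = w := by
    rintro ⟨_, u, hu, rfl⟩
    refine Subtype.ext ?_
    show π x * (π x * (π x * (π x * (π x * (π x * (π x * π u * (π x)⁻¹) * (π x)⁻¹) * (π x)⁻¹) * (π x)⁻¹) *
      (π x)⁻¹) * (π x)⁻¹) * (π x)⁻¹ = π u
    have e : (π x) ^ 7 = 1 := by rw [← map_pow, L.x7, map_one]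
    calc _ = (π x) ^ 7 * π u * ((π x) ^ 7)⁻¹ := by simp only [pow_succ, pow_zero, one_mul, mul_inv_rev, mul_assoc]
      _ = π u := by rw [e]; group
  have hfix : ∀ w : ↥W, θ w = w → w = 1 := by
    rintro ⟨_, u, hu, rfl⟩ h
    refine (hq1 u hu).2 (L.fix u hu ?_)
    have h' : InT t (x * u * x⁻¹ * u⁻¹) := by
      have h2 : π x * π u * (π x)⁻¹ = π u := congrArg Subtype.val h
      rw [hI, map_mul, map_mul, map_mul, map_inv, map_inv, h2, mul_inv_cancel]
    obtain ⟨e, he⟩ := L.inT_tB h'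
    have hxu : x * u * x⁻¹ = u * tB t e := by
      rw [← he, ((L.commute_inT h').eq : u * (x * u * x⁻¹ * u⁻¹) = _)]
      group
    cases e
    · simp only [tB, Bool.false_eq_true, if_false, mul_one] at hxu
      exact mul_inv_eq_iff_eq_mul.1 hxu
    · exfalso
      simp only [tB, if_true] at hxu
      have hi : ∀ i : ℕ, x ^ i * u * (x ^ i)⁻¹ = u * t ^ i := by
        intro i
        induction i with
        | zero => simp
        | succ i ih =>
          rw [pow_succ', show x * x ^ i * u * (x * x ^ i)⁻¹ = x * (x ^ i * u * (x ^ i)⁻¹) * x⁻¹ by group, ih,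
            show x * (u * t ^ i) * x⁻¹ = (x * u * x⁻¹) * (x * t ^ i * x⁻¹) by group, hxu, ← conj_pow, L.conj_t,
            mul_assoc, ← pow_succ']
      have h7' := hi 7
      rw [L.x7, one_mul, inv_one, mul_one, pow_succ t 6, show t ^ 6 = (t * t) ^ 3 by
        rw [← pow_two, ← pow_mul], L.tt, one_pow, one_mul] at h7'
      exact L.t_ne (left_eq_mul.1 h7')
  have qmul : ∀ (u v : H) (hu : u ∈ Q) (hv : v ∈ Q), q u hu * q v hv = q (u * v) (mul_mem hu hv) :=
    fun u v hu hv => Subtype.ext (by simp [q])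
  have hA : ∀ u, ∀ hu : u ∈ Q, (u ∈ half t Q x 1 3 ↔ polA θ (q u hu) = 1) := fun u hu => by
    simp only [polA, hθ, qmul, hq1, half, Set.mem_setOf_eq, hu, true_and, orb_orb, Nat.reduceAdd]
  have hB : ∀ u, ∀ hu : u ∈ Q, (u ∈ half t Q x 2 3 ↔ polB θ (q u hu) = 1) := fun u hu => by
    simp only [polB, hθ, qmul, hq1, half, Set.mem_setOf_eq, hu, true_and, orb_orb, Nat.reduceAdd]
  have hinvq : ∀ (u : H) (hu : u ∈ Q), q u⁻¹ (inv_mem hu) = q u hu := fun u hu => by
    have h1 : q u⁻¹ (inv_mem hu) = (q u hu)⁻¹ := Subtype.ext (by simp [q])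
    rw [h1, inv_eq_of_mul_eq_one_left (hV _)]
  have hAi : ∀ u, ∀ hu : u ∈ Q, (InT t (u * orb x u 6 * orb x u 4) ↔
      q u hu * θ (θ (θ (θ (θ (θ (q u hu)))))) * θ (θ (θ (θ (q u hu)))) = 1) := fun u hu => by
    simp only [hθ, qmul, hq1, orb_orb, Nat.reduceAdd]
  have e : ∀ {u : H}, ∀ i j, (i + j) % 7 = 0 → orb x⁻¹ u i = orb x u j := fun {u} i j hij => by
    have : (x⁻¹) ^ i = x ^ j := by
      rw [inv_pow, inv_eq_iff_mul_eq_one, ← pow_add, L.x_pow_mod, hij, pow_zero]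
    simp only [orb, this]
  refine ⟨fun u hu => ?_, fun u hua hub => ?_, fun u hu => ?_, fun u hu => ?_, fun u hu => ?_, fun u hu => ?_⟩
  · set ub := orb x u 1 * orb x u 2 * orb x u 4
    have hub : ub ∈ Q := mul_mem (mul_mem (L.orb_mem hu 1) (L.orb_mem hu 2)) (L.orb_mem hu 4)
    have hE : q ub hub = polE θ (q u hu) := by
      simp only [polE, hθ, qmul]
      exact Subtype.ext (by simp only [q, ub, orb_orb, Nat.reduceAdd])
    refine ⟨u * ub⁻¹, ?_, ub, ?_, by group⟩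
    · rw [hA _ (mul_mem hu (inv_mem hub)), ← qmul u ub⁻¹ hu (inv_mem hub), hinvq _ hub, hE]
      exact polA_compl hV h7 hfix _
    · rw [hB _ hub, hE]
      exact polB_E hV h7 hfix _
  · exact (hq1 u hua.1).1 (halves_meet hV h7 hfix ((hA u hua.1).1 hua) ((hB u hua.1).1 hub))
  · have h := half_inverse hV h7 ((hA u hu.1).1 hu)
    simp only [hθ, qmul] at h
    have hm : orb x u 3 * orb x u 5 * orb x u 6 ∈ Q :=
      mul_mem (mul_mem (L.orb_mem hu.1 _) (L.orb_mem hu.1 _)) (L.orb_mem hu.1 _)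
    rw [← hq1 _ (mul_mem hu.1 (inv_mem hm)), ← qmul _ _ hu.1 (inv_mem hm), hinvq _ hm]
    have h' : q (orb x u 3 * orb x u 5 * orb x u 6) hm = q u hu.1 := by
      refine Subtype.ext ?_
      have h2 := congrArg Subtype.val h
      simp only [q, orb_orb, Nat.reduceAdd] at h2 ⊢
      exact h2
    rw [h', hV]
  · have hv : y * u * y⁻¹ ∈ Q := L.conjQ y u hu.1
    rw [hA _ hv]
    refine polA_of_sq hV h7 hfix ?_
    simp only [hθ, qmul, hq1, orb_orb, Nat.reduceAdd]
    have e : ∀ i, orb x (y * u * y⁻¹) (2 * i) = y * orb x u i * y⁻¹ := fun i => by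
      simp only [orb]
      calc x ^ (2 * i) * (y * u * y⁻¹) * (x ^ (2 * i))⁻¹ = (x ^ (2 * i) * y) * u * (x ^ (2 * i) * y)⁻¹ := by group
        _ = _ := by rw [← L.y_pow]; group
    rw [show orb x (y * u * y⁻¹) 2 = orb x (y * u * y⁻¹) (2 * 1) from rfl,
      show orb x (y * u * y⁻¹) 6 = orb x (y * u * y⁻¹) (2 * 3) from rfl, e, e,
      show y * u * y⁻¹ * (y * orb x u 1 * y⁻¹) * (y * orb x u 3 * y⁻¹) = y * (u * orb x u 1 * orb x u 3) * y⁻¹ by group,
      L.inT_conj y hu.2]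
    exact hu.2
  · refine ⟨hu.1, ?_⟩
    rw [e 1 6 rfl, e 3 4 rfl]
    refine (hAi u hu.1).2 ?_
    have h := congrArg (fun w => θ (θ (θ (θ w)))) ((hB u hu.1).1 hu)
    simp only [polB, map_mul, map_one, h7] at h
    rw [← h]
    ac_rfl
  · have h0 := hu.2
    rw [e 1 6 rfl, e 3 4 rfl] at h0
    refine (hB u hu.1).2 ?_
    have h := congrArg (fun w => θ (θ (θ w))) ((hAi u hu.1).1 h0)
    simp only [map_mul, map_one, h7] at h
    simp only [polB]
    rw [← h]
    ac_rfl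

theorem half_commute (L : Loc7 t Q x y) {u v : H} (hu : u ∈ half t Q x 1 3) (hv : v ∈ half t Q x 1 3) :
    Commute u v := by
  obtain ⟨-, -, hinv, -, -, -⟩ := L.mod_facts
  have hm : ∀ i, orb x v i ∈ Q := fun i => L.orb_mem hv.1 i
  have hn : ∀ i, orb x u i ∈ Q := fun i => L.orb_mem hu.1 i
  set w := orb x v 3 * orb x v 5 * orb x v 6 with hw
  have hwQ : w ∈ Q := mul_mem (mul_mem (hm 3) (hm 5)) (hm 6)
  have h1 : Commute u v ↔ Commute u w := by
    have hc : InT t (v * w⁻¹) := hinv v hv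
    have e : v = (v * w⁻¹) * w := by group
    have := L.commute_mul_iff hu.1 (mul_mem hv.1 (inv_mem hwQ)) hwQ
    rw [← e] at this
    rw [this]
    exact ⟨fun h => h.1 (L.commute_inT hc), fun h => iff_of_true (L.commute_inT hc) h⟩
  have h2 : Commute u w ↔ ((Commute u (orb x v 3) ↔ Commute u (orb x v 5)) ↔ Commute u (orb x v 6)) := by
    rw [hw, L.commute_mul_iff hu.1 (mul_mem (hm 3) (hm 5)) (hm 6), L.commute_mul_iff hu.1 (hm 3) (hm 5)]
  have h3 : ((Commute u (orb x v 6) ↔ Commute (orb x u 1) (orb x v 6)) ↔ Commute (orb x u 3) (orb x v 6)) := by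
    rw [Commute.symm_iff (a := u), Commute.symm_iff (a := orb x u 1), Commute.symm_iff (a := orb x u 3),
      ← L.commute_mul_iff (hm 6) hu.1 (hn 1), ← L.commute_mul_iff (hm 6) (mul_mem hu.1 (hn 1)) (hn 3)]
    exact L.commute_inT hu.2
  have sh : ∀ i j k, (i + j) % 7 = k % 7 → (Commute (orb x u i) (orb x v k) ↔ Commute u (orb x v j)) := by
    intro i j k h
    rw [show orb x v k = x ^ i * orb x v j * (x ^ i)⁻¹ by
      rw [L.orb_mod v k, ← h, ← L.orb_mod]
      simp only [orb, pow_add]; group]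
    exact L.commute_conj (x ^ i)
  rw [sh 1 5 6 rfl, sh 3 3 6 rfl] at h3
  rw [h1, h2]
  tauto

theorem half_sq (L : Loc7 t Q x y) {u : H} (hu : u ∈ half t Q x 1 3) : u * u = 1 := by
  have hmem : ∀ i, orb x u i ∈ half t Q x 1 3 := by
    intro i
    induction i with
    | zero => simpa [orb] using hu
    | succ i ih => rw [orb_succ]; exact (L.quotient_facts 1 3).2 _ ih
  have c1 := L.half_commute hu (hmem 1)
  have c2 := L.half_commute (hmem 3) hu
  have c3 := L.half_commute (hmem 3) (hmem 1)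
  have hP : (u * orb x u 1 * orb x u 3) * (u * orb x u 1 * orb x u 3) = 1 := by
    rcases hu.2 with h | h <;> rw [h]
    · exact one_mul 1
    · exact L.tt
  have e : ∀ i, orb x u i * orb x u i = u * u := fun i => by
    rw [show orb x u i * orb x u i = x ^ i * (u * u) * (x ^ i)⁻¹ by simp only [orb]; group]
    exact L.inT_conj _ (L.sq u hu.1)
  have k : (u * orb x u 1 * orb x u 3) * (u * orb x u 1 * orb x u 3) =
      (u * u) * (orb x u 1 * orb x u 1) * (orb x u 3 * orb x u 3) := by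
    calc _ = u * orb x u 1 * ((orb x u 3 * u) * orb x u 1) * orb x u 3 := by group
      _ = u * (orb x u 1 * u) * (orb x u 3 * orb x u 1) * orb x u 3 := by rw [c2.eq]; group
      _ = _ := by rw [← c1.eq, c3.eq]; group
  rw [k, e, e] at hP
  rcases L.sq u hu.1 with h | h
  · exact h
  · rw [h, L.tt, one_mul] at hP; exact absurd hP L.t_ne

theorem half_card (L : Loc7 t Q x y) : ∃ S : Subgroup H, (S : Set H) = half t Q x 1 3 ∧ Nat.card ↥S = 16 := by
  obtain ⟨S, hS, hSQ⟩ := L.half_subgroup 1 3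
  obtain ⟨hdec, -, -, -, h56, h65⟩ := L.mod_facts
  refine ⟨S, hS, ?_⟩
  haveI : Fact (Nat.Prime 7) := ⟨by norm_num⟩
  have mem : ∀ u, u ∈ S ↔ u ∈ half t Q x 1 3 := fun u => by rw [← SetLike.mem_coe, hS]
  have hmod := card_pgroup_fixed L.x7 S fun u hu => (mem _).2 ((L.quotient_facts 1 3).2 u ((mem u).1 hu))
  have hT : ∀ u, InT t u → u ∈ S := fun u hu => (mem u).2 ⟨L.inT_mem hu, by
    rcases hu with rfl | rfl
    · exact .inl (by simp [orb])
    · exact .inr (by simp only [orb, L.conj_t]; rw [L.tt, one_mul])⟩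
  have hfix : Nat.card {s : ↥S // x * (s : H) = (s : H) * x} = 2 := by
    rw [Nat.card_eq_two_iff]
    refine ⟨⟨⟨1, one_mem S⟩, by simp⟩, ⟨⟨t, hT t (.inr rfl)⟩, (L.cent x).eq.symm⟩, ?_, ?_⟩
    · intro h; exact L.t_ne (congrArg (fun z => (z.1 : H)) h).symm
    · rw [Set.eq_univ_iff_forall]
      rintro ⟨⟨u, hu⟩, huc⟩
      rcases L.fix u (hSQ hu) huc with rfl | rfl
      · exact Or.inl rfl
      · exact Or.inr rfl
  rw [hfix] at hmod
  have hdvd : Nat.card ↥S ∣ 2 ^ 7 := by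
    have := Subgroup.card_dvd_of_le hSQ
    rw [L.cardQ] at this; simpa using this
  obtain ⟨k, hk, hkS⟩ := (Nat.dvd_prime_pow Nat.prime_two).1 hdvd
  have hnab : ¬ ∀ u ∈ Q, ∀ v ∈ Q, Commute u v := by
    intro h
    have h2 : (Q : Set H) ⊆ ({1, t} : Set H) := fun u hu => L.zQ u hu (h u hu)
    have h3 := Set.ncard_le_ncard h2
    rw [← Nat.card_coe_set_eq] at h3
    have h4 : ({1, t} : Set H).ncard ≤ 2 := (Set.ncard_insert_le _ _).trans (by simp)
    have := L.cardQ
    have h5 : Nat.card ↥Q ≤ 2 := h3.trans h4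
    omega
  have h2 : Nat.card ↥S ≠ 2 := by
    intro h
    have hsmall : ∀ u ∈ half t Q x 1 3, InT t u := by
      intro u hu
      obtain ⟨⟨p, hp⟩, ⟨r, hr⟩, -, huniv⟩ := Nat.card_eq_two_iff.1 h
      have hcase : ∀ z : ↥S, (z : H) = p ∨ (z : H) = r := fun z => by
        have := Set.eq_univ_iff_forall.1 huniv z
        rcases this with e | e
        · exact .inl (congrArg Subtype.val e)
        · exact .inr (congrArg Subtype.val (Set.mem_singleton_iff.1 e))
      have a1 := hcase ⟨1, one_mem S⟩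
      have a2 := hcase ⟨t, hT t (.inr rfl)⟩
      have a3 := hcase ⟨u, (mem u).2 hu⟩
      simp only at a1 a2 a3
      unfold InT
      have := L.t_ne
      grind
    refine hnab fun u hu v hv => ?_
    obtain ⟨ua, hua, ub, hub, rfl⟩ := hdec u hu
    obtain ⟨va, hva, vb, hvb, rfl⟩ := hdec v hv
    have c := L.inv.half_commute (h56 ub hub) (h56 vb hvb)
    have k1 : ∀ z, Commute ua z := fun z => (L.commute_inT (hsmall ua hua)).symm
    have k2 : ∀ z, Commute va z := fun z => (L.commute_inT (hsmall va hva)).symm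
    exact (k1 _).mul_left ((k2 _).symm.mul_right c)
  have h128 : Nat.card ↥S ≠ 128 := by
    intro h
    have : S = Q := Subgroup.eq_of_le_of_card_ge hSQ (by rw [h, L.cardQ])
    exact hnab fun u hu v hv => L.half_commute ((mem u).1 (this ▸ hu)) ((mem v).1 (this ▸ hv))
  rw [hkS] at hmod h2 h128 ⊢
  unfold Nat.ModEq at hmod
  interval_cases k <;> simp_all

theorem exists_fixed (L : Loc7 t Q x y) :
    ∃ a ∈ half t Q x 1 3, ¬ InT t a ∧ Commute y a ∧ a * orb x a 1 * orb x a 3 = 1 := by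
  obtain ⟨S, hS, hcard⟩ := L.half_card
  obtain ⟨-, -, -, hy, -, -⟩ := L.mod_facts
  haveI : Fact (Nat.Prime 3) := ⟨by norm_num⟩
  have mem : ∀ u, u ∈ S ↔ u ∈ half t Q x 1 3 := fun u => by rw [← SetLike.mem_coe, hS]
  have htS : t ∈ half t Q x 1 3 := ⟨L.tQ, .inr (by simp only [orb, L.conj_t]; rw [L.tt, one_mul])⟩
  have hmod := card_pgroup_fixed L.y3 S fun u hu => (mem _).2 (hy u ((mem u).1 hu))
  rw [hcard] at hmod
  obtain ⟨u, hu, hut, huy⟩ : ∃ u ∈ half t Q x 1 3, ¬ InT t u ∧ Commute y u := by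
    by_contra hc
    simp only [not_exists, not_and] at hc
    have h2 : Nat.card {s : ↥S // y * (s : H) = (s : H) * y} = 2 := by
      rw [Nat.card_eq_two_iff]
      refine ⟨⟨⟨1, one_mem S⟩, by simp⟩, ⟨⟨t, (mem t).2 htS⟩, (L.cent y).eq.symm⟩, ?_, ?_⟩
      · intro h; exact L.t_ne (congrArg (fun z => (z.1 : H)) h).symm
      · rw [Set.eq_univ_iff_forall]
        rintro ⟨⟨u, hu⟩, huc⟩
        rcases not_not.1 (fun h => hc u ((mem u).1 hu) h huc) with h | h <;> subst h
        · exact Or.inl rfl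
        · exact Or.inr rfl
    rw [h2] at hmod
    exact absurd hmod (by decide)
  rcases hu.2 with h | h
  · exact ⟨u, hu, hut, huy, h⟩
  · refine ⟨u * t, (L.quotient_facts 1 3).1 u hu t htS, fun hh => hut ?_, huy.mul_right (L.cent y).symm, ?_⟩
    · have := L.inT_mul hh (.inr rfl : InT t t)
      rwa [mul_assoc, L.tt, mul_one] at this
    · have e : ∀ i, orb x (u * t) i = orb x u i * t := fun i => by
        simp only [orb]
        rw [show x ^ i * (u * t) * (x ^ i)⁻¹ = (x ^ i * u * (x ^ i)⁻¹) * (x ^ i * t * (x ^ i)⁻¹) by group, L.conj_t]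
      rw [e, e]
      calc u * t * (orb x u 1 * t) * (orb x u 3 * t) = u * (t * orb x u 1) * (t * orb x u 3) * t := by group
        _ = u * orb x u 1 * (t * t) * orb x u 3 * t := by rw [(L.cent _).eq]; group
        _ = 1 := by rw [L.tt, mul_one, h, L.tt]

end Loc7

end CfsgLib.HeType
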